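import Cfsg.Agent.Lib.FischerTwoFour.Cocode.DataExists

/-!
The coordinates of `Q / ⟨z⟩` with the elementary subgroup of order `2^11`, and the semilinearity of the
elements outside the subgroup of index two.
-/

set_option autoImplicit false
set_option linter.unusedSectionVars false

namespace CfsgLib.FischerTwoFour

open scoped commutatorElement
open Four hiding mul_one one_mul mul_assoc mul_comm mul_zero zero_mul mul_add add_mul

variable {G : Type*} [Group G] [Finite G] {z : G}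

set_option quotPrecheck false in
local notation "CC" => Subgroup.centralizer ({z} : Set G)

variable {Q : Subgroup (Subgroup.centralizer ({z} : Set G))} [Q.Normal]

/-- The coordinate data, with the semilinearity outside the subgroup of index two. -/
theorem exists_aData_outer (hF : Cfsg.IsOfLargeFischerTypeAt z Q) :
    ∃ Y : Sys z, Y.Qg = Q.map (Subgroup.centralizer ({z} : Set G)).subtype ∧ ∃ D : Cocode.AData Y,
      ∀ c ∈ Subgroup.centralizer ({z} : Set G), c ∉ Y.M → ∀ q ∈ Y.Qg,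
        D.co (c * Y.sh q * c⁻¹) = omV (omV (D.co (c * q * c⁻¹))) := by
  classical
  have S := shape_of hF
  have hz : orderOf z = 2 := hF.1.1
  obtain ⟨Ge⟩ := S.geo_of_fusion (exists_fusion hz hF.1.2.2.2.2 S)
  obtain ⟨X⟩ := Ge.exists_lift
  obtain ⟨b, hb⟩ := Ge.exists_base
  set τ := (Ge.K.t : CC ⧸ Q) with hτ
  let N : Subgroup CC := (Subgroup.zpowers τ).comap (QuotientGroup.mk' Q)
  let M : Subgroup CC := Ge.Mb.comap (QuotientGroup.mk' Q)
  have : Ge.Mb.Normal := Subgroup.normal_of_index_eq_two Ge.index_Mb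
  have : M.Normal := inferInstanceAs (Ge.Mb.comap (QuotientGroup.mk' Q)).Normal
  have hQN : Q ≤ N := fun c hc => by
    show QuotientGroup.mk' Q c ∈ Subgroup.zpowers τ
    rw [show QuotientGroup.mk' Q c = 1 from (QuotientGroup.eq_one_iff c).2 hc]
    exact one_mem _
  have hNM : N ≤ M := Subgroup.comap_mono (Subgroup.zpowers_le.2 Ge.K.t.2)
  have hidx : M.index = 2 := by
    rw [← Ge.index_Mb]; exact Subgroup.index_comap_of_surjective _ (QuotientGroup.mk'_surjective Q)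
  have hcen : ∀ m ∈ M, ∀ n ∈ N, ⁅m, n⁆ ∈ Q := fun m hm n hn => by
    refine (QuotientGroup.eq_one_iff _).1 ?_
    rw [show (QuotientGroup.mk ⁅m, n⁆ : CC ⧸ Q) = ⁅QuotientGroup.mk' Q m, QuotientGroup.mk' Q n⁆ from
      map_commutatorElement (QuotientGroup.mk' Q) m n, commutatorElement_eq_one_iff_mul_comm]
    obtain ⟨i, hi⟩ := Subgroup.mem_zpowers_iff.1 hn
    rw [← hi]
    exact ((show Commute (QuotientGroup.mk' Q m) τ from congrArg Subtype.val (Ge.K.t_comm ⟨_, hm⟩)).zpow_right i).eq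
  have ht : ∀ u, S.rep.ρ τ u = Ge.K.e (omV (Ge.K.e.symm u)) := fun u => by
    conv_lhs => rw [← Ge.K.e.apply_symm_apply u]
    exact Ge.K.e_om _
  have hfpf : ∀ n ∈ N, n ∉ Q → ∀ v : VQ Q, rho Q n (rho Q n v) + rho Q n v + v = 0 := by
    intro n hn hnQ v
    obtain ⟨y, rfl⟩ := Ge.K.e.surjective v
    show S.rep.ρ (QuotientGroup.mk n) (S.rep.ρ (QuotientGroup.mk n) (Ge.K.e y)) +
      S.rep.ρ (QuotientGroup.mk n) (Ge.K.e y) + Ge.K.e y = 0
    obtain ⟨i, hi⟩ := Subgroup.mem_zpowers_iff.1 hn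
    have h3 : τ ^ 3 = 1 := congrArg Subtype.val Ge.K.t_cube
    have hcases : (QuotientGroup.mk n : CC ⧸ Q) = τ ∨ (QuotientGroup.mk n : CC ⧸ Q) = τ * τ := by
      have e : (QuotientGroup.mk n : CC ⧸ Q) = τ ^ (i % (3 : ℕ)) := by
        rw [← Ge.t_order, zpow_mod_orderOf]; exact hi.symm
      rcases (by omega : i % (3 : ℕ) = 0 ∨ i % (3 : ℕ) = 1 ∨ i % (3 : ℕ) = 2) with h | h | h
      · exact absurd ((QuotientGroup.eq_one_iff n).1 (by rw [e, h, zpow_zero])) hnQ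
      · left; rw [e, h, zpow_one]
      · right; rw [e, h, zpow_two]
    rcases hcases with e | e <;>
      simp only [e, QRep.mul_apply, ht, Ge.K.e.symm_apply_apply, ← map_add]
    all_goals
      refine (congrArg Ge.K.e (funext fun i => ?_)).trans (map_zero Ge.K.e)
      simp only [Pi.add_apply, omV, Pi.zero_apply]
      first
        | exact (by decide : ∀ c : K4, om (om c) + om c + c = 0) _
        | exact (by decide : ∀ c : K4, om (om (om (om c))) + om (om c) + c = 0) _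
  have hx3 : X.x ^ 3 = 1 := by rw [pow_three']; exact X.cube
  have hxN : X.x ∈ N := by
    show QuotientGroup.mk' Q X.x ∈ Subgroup.zpowers τ
    rw [show QuotientGroup.mk' Q X.x = τ from X.mkx]
    exact Subgroup.mem_zpowers τ
  have hxQ : X.x ∉ Q := fun h => by
    have e : τ = 1 := X.mkx.symm.trans ((QuotientGroup.eq_one_iff _).2 h)
    have := Ge.t_order
    rw [← hτ, e, orderOf_one] at this
    omega
  obtain ⟨Y, hYQ, hYM, hYx⟩ := exists_sys S hz N M hQN hNM hidx hcen hfpf X.x hxN hxQ hx3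
  refine ⟨Y, hYQ, ?_⟩
  have memQ : ∀ {w : G}, w ∈ Y.Qg ↔ ∃ a : Q, toG a = w := fun {w} => by rw [hYQ]; exact mem_map_iff
  -- coordinates
  let co : G → Vec := fun w => if h : ∃ a : Q, toG a = w then Ge.K.e.symm (pr h.choose) else 0
  have hco : ∀ a : Q, co (toG a) = Ge.K.e.symm (pr a) := fun a => by
    simp only [co, dif_pos (⟨a, rfl⟩ : ∃ a' : Q, toG a' = toG a)]
    have h : ∃ a' : Q, toG a' = toG a := ⟨a, rfl⟩
    exact congrArg (fun q : Q => Ge.K.e.symm (pr q)) (toG_inj h.choose_spec)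
  have hpr : ∀ {u : VQ Q}, Ge.K.e.symm u = 0 ↔ u = 0 := fun {u} => AddEquiv.map_eq_zero_iff _
  have hconjco : ∀ (c : CC) (a : Q) (x : Vec), Ge.K.e.symm (pr a) = x →
      co ((c : G) * toG a * (c : G)⁻¹) = Ge.K.e.symm (S.rep.ρ (QuotientGroup.mk c) (Ge.K.e x)) := fun c a x e => by
    rw [← toG_cjQ, hco, ← e, Ge.K.e.apply_symm_apply, S.rep_apply]
  obtain ⟨A, hA2, hAc, hAQ, hAmem, hAlift⟩ := Ge.exists_A
  have hAinv : ∀ a ∈ A, (a⁻¹ : CC) = a := fun a ha => inv_eq_of_mul_eq_one_right (hA2 a ha)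
  refine ⟨
    { co := co
      co_mul := ?_, co_zero := ?_, co_surj := ?_, co_sh := ?_, co_comm := ?_, co_sq := ?_
      b := b
      co_conj := ?_
      A := A.map (CC).subtype
      A_le := ?_, A_sq := ?_, A_card := ?_, A_Q := ?_, A_act := ?_, act_A := ?_, A_full := ?_, A_unique := ?_ }, ?_⟩
  · intro p hp q hq
    obtain ⟨a, rfl⟩ := memQ.1 hp
    obtain ⟨c, rfl⟩ := memQ.1 hq
    rw [← map_mul, hco, hco, hco, pr_mul, map_add]
  · intro q hq
    obtain ⟨a, rfl⟩ := memQ.1 hq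
    rw [hco, hpr, S.pr_eq_zero, inZ_iff_center S hz]
  · intro x
    obtain ⟨a, ha⟩ := pr_surj (Ge.K.e x)
    exact ⟨toG a, memQ.2 ⟨a, rfl⟩, by rw [hco, ha, Ge.K.e.symm_apply_apply]⟩
  · intro q hq
    obtain ⟨a, rfl⟩ := memQ.1 hq
    show co (Y.ξ * toG a * Y.ξ⁻¹) = _
    rw [hYx, hconjco _ a _ rfl, X.mkx, ← hτ, ht, Ge.K.e.symm_apply_apply, Ge.K.e.symm_apply_apply, hco]
  · intro p hp q hq
    obtain ⟨a, rfl⟩ := memQ.1 hp
    obtain ⟨c, rfl⟩ := memQ.1 hq
    rw [hco, hco, ← Ge.K.b_e, Ge.K.e.apply_symm_apply, Ge.K.e.apply_symm_apply,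
      show (S.rep.sub Ge.Mb).b (pr a) (pr c) = bf (pr a) (pr c) from rfl, S.bf_pr, ← map_mul, ← map_mul,
      toG_inj.eq_iff, bit, ← commutatorElement_eq_one_iff_mul_comm]
    by_cases h : ⁅a, c⁆ = 1 <;> simp [h]
  · intro q hq
    obtain ⟨a, rfl⟩ := memQ.1 hq
    rw [hco, ← Ge.K.q_e, Ge.K.e.apply_symm_apply, show (S.rep.sub Ge.Mb).q (pr a) = qf (pr a) from rfl,
      S.qf_pr, ← map_mul, ← map_one (toG (Q := Q)), toG_inj.eq_iff, bit]
    by_cases h : a * a = 1 <;> simp [h]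
  · intro q hq hflat hne
    obtain ⟨a, rfl⟩ := memQ.1 hq
    rw [hco] at hflat hne ⊢
    have ha2 : a * a = 1 := Ge.flatPre_sq (j := base) (Ge.mem_flatPre.2 hflat)
    have han : a ∉ Subgroup.center Q := fun h => hne (hpr.2 (S.pr_eq_zero.2 h))
    rw [conj_iff_card S hF ha2 han, ← Ge.class_flat hb hflat hne, Ge.K.e.apply_symm_apply]
  · rw [hYM]
    refine Subgroup.map_mono fun a ha => ?_
    show QuotientGroup.mk' Q a ∈ Ge.Mb
    exact (hAmem a ha).1
  · rintro _ ⟨a, ha, rfl⟩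
    rw [← map_mul, hA2 a ha, map_one]
  · rw [Subgroup.card_map_of_injective (CC).subtype_injective, hAc]
  · intro q hq
    obtain ⟨a, rfl⟩ := memQ.1 hq
    rw [hco, ← Ge.mem_flatPre, ← hAQ a]
    exact Subgroup.mem_map_iff_mem (CC).subtype_injective
  · rintro _ ⟨a, ha, rfl⟩
    obtain ⟨n, hn, hact⟩ := Ge.flat_R hb (hAmem a ha)
    refine ⟨n, hn, fun q hq => ?_⟩
    obtain ⟨c, rfl⟩ := memQ.1 hq
    show co ((a : G) * toG c * (a : G)⁻¹) = _
    rw [hconjco a c _ rfl, hact, Ge.K.e.symm_apply_apply, hco]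
  · intro n hn
    obtain ⟨h, hh, hi⟩ := Ge.exists_R hb hn
    obtain ⟨a, ha, e⟩ := hAlift _ hh
    refine ⟨(a : G), ⟨a, ha, rfl⟩, fun q hq => ?_⟩
    obtain ⟨c, rfl⟩ := memQ.1 hq
    rw [hconjco a c _ rfl, hco, e]
    exact hi _
  · intro c hc hfix
    let cC : CC := ⟨c, hc⟩
    have hmem : (QuotientGroup.mk cC : CC ⧸ Q) ∈ Ge.flatStab base := Ge.flat_full fun x hx => by
      obtain ⟨a, ha⟩ := pr_surj (Ge.K.e x)
      have e : Ge.K.e.symm (pr a) = x := by rw [ha, Ge.K.e.symm_apply_apply]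
      have h := hfix _ (memQ.2 ⟨a, rfl⟩) (by rw [hco, e]; exact flat_base.1 hx)
      rw [show c * toG a * c⁻¹ = (cC : G) * toG a * (cC : G)⁻¹ from rfl, hconjco cC a x e, hco, e] at h
      calc S.rep.ρ (QuotientGroup.mk cC) (Ge.K.e x)
          = Ge.K.e (Ge.K.e.symm (S.rep.ρ (QuotientGroup.mk cC) (Ge.K.e x))) := (Ge.K.e.apply_symm_apply _).symm
        _ = Ge.K.e x := by rw [h]
    obtain ⟨a, ha, e⟩ := hAlift _ hmem
    refine ⟨(a : G), ⟨a, ha, rfl⟩, ?_⟩
    rw [hYQ]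
    refine ⟨a * cC, ?_, rfl⟩
    have h := QuotientGroup.eq.1 e
    rwa [hAinv a ha] at h
  · intro P E hPC hP hAP hEP hE hEc
    have hsq : ∀ x ∈ E.subgroupOf CC, x * x = 1 := fun x hx => Subtype.ext (hE _ hx)
    have hcard : Nat.card (E.subgroupOf CC) = 2048 := by
      rw [Nat.card_congr (Subgroup.subgroupOfEquivOfLe (hEP.trans hPC)).toEquiv, hEc]
    have hp : IsPGroup 2 (P.subgroupOf CC) := hP.of_equiv (Subgroup.subgroupOfEquivOfLe hPC).symm
    have h := Ge.elem_eq hp (fun a ha => hAP ⟨a, ha, rfl⟩) (fun a ha => hEP ha) hA2 hsq hAc hcard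
    rw [← h, Subgroup.map_subgroupOf_eq_of_le (hEP.trans hPC)]
  · intro c hc hcM q hq
    obtain ⟨a, rfl⟩ := memQ.1 hq
    let cC : CC := ⟨c, hc⟩
    have hnb : (QuotientGroup.mk cC : CC ⧸ Q) ∉ Ge.Mb := fun h => hcM (by
      rw [hYM]; exact ⟨cC, h, rfl⟩)
    set γ := (QuotientGroup.mk cC : CC ⧸ Q)
    show co (c * (Y.ξ * toG a * Y.ξ⁻¹) * c⁻¹) = omV (omV (co (c * toG a * c⁻¹)))
    rw [show c * (Y.ξ * toG a * Y.ξ⁻¹) * c⁻¹ = ((cC * X.x : CC) : G) * toG a * ((cC * X.x : CC) : G)⁻¹ by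
      rw [hYx, Subgroup.coe_mul, show (cC : G) = c from rfl]; group, show c = (cC : G) from rfl, hconjco _ a _ rfl, hconjco _ a _ rfl,
      Ge.K.e.apply_symm_apply, QuotientGroup.mk_mul, X.mkx, ← hτ]
    have hcomm : γ * τ = τ * τ * γ := by
      have h := Ge.inv γ hnb
      rw [← hτ] at h
      have h2 : τ⁻¹ = τ * τ := inv_eq_of_mul_eq_one_right (by
        rw [← pow_three]; exact congrArg Subtype.val Ge.K.t_cube |>.trans rfl)
      rw [← h2, ← h]; group
    rw [hcomm, QRep.mul_apply, QRep.mul_apply, ht, ht, Ge.K.e.symm_apply_apply, Ge.K.e.symm_apply_apply]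

end CfsgLib.FischerTwoFour
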