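import Cfsg.Agent.Lib.FischerTwoFour.FourCert.Types
import Cfsg.Agent.Lib.FischerTwoFour.FourCert.DataOuter

/-!
The four-group of `Q` on the line of the pair `01`: the part of `C(z)` centralising it acts on the four
coordinates, linearly and faithfully modulo `Q`, has index four in the centraliser of one of its
involutions, and moves the flat plane to all twenty seven totally isotropic planes.
-/

set_option autoImplicit false
set_option linter.unusedSectionVars false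
set_option maxRecDepth 100000

namespace CfsgLib.FischerTwoFour.FourCert

open Subgroup
open CfsgLib.FischerTwoFour.Cocode
open CfsgLib.ThreeTrans

variable {G : Type*} [Group G] [Finite G] {z : G} {Y : CfsgLib.FischerTwoFour.Sys z} (D : AData Y)

theorem xor_lt_four {a b : ℕ} (ha : a < 4) (hb : b < 4) : Nat.xor a b < 4 := xor_lt' (k := 2) ha hb

/-- The four-group. -/
def four : Subgroup G where
  carrier := {x | ∃ k, k < 4 ∧ D.phi k = x}
  one_mem' := ⟨0, by norm_num, D.phi_zero⟩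
  mul_mem' := by
    rintro _ _ ⟨a, ha, rfl⟩ ⟨b, hb, rfl⟩
    exact ⟨_, xor_lt_four ha hb, (D.phi_mul a b).symm⟩
  inv_mem' := by
    rintro _ ⟨a, ha, rfl⟩
    exact ⟨a, ha, (D.A_inv (D.phi_mem a).1).symm⟩

theorem mem_four {x : G} : x ∈ four D ↔ ∃ k, k < 4 ∧ D.phi k = x := Iff.rfl

theorem phi_mem_four {k : ℕ} (h : k < 4) : D.phi k ∈ four D := ⟨k, h, rfl⟩

theorem four_Bg {x : G} (h : x ∈ four D) : x ∈ D.Bg := by
  obtain ⟨k, -, rfl⟩ := h
  exact D.phi_mem k

theorem z_notMem_four : z ∉ four D := by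
  rintro ⟨k, hk, e⟩
  have := D.phi_inj (by omega : k < 128) (by norm_num) (e.trans D.phi_z.symm)
  omega

theorem card_four : Nat.card (four D) = 4 := by
  rw [← Nat.card_fin 4]
  refine (Nat.card_congr (Equiv.ofBijective (fun k : Fin 4 => (⟨D.phi k, k, k.2, rfl⟩ : four D)) ⟨?_, ?_⟩)).symm
  · intro a b h
    exact Fin.ext (D.phi_inj (by omega) (by omega) (congrArg Subtype.val h))
  · rintro ⟨_, k, hk, rfl⟩
    exact ⟨⟨k, hk⟩, rfl⟩

theorem bw_small : ∀ b, bwC b 1 = 5 ∧ bwC b 2 = 10 ∧ ((List.range 4).all fun k =>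
    Nat.beq (wN (bwC b k)).code.val 0 && low (bwC b k)) = true := by decide +kernel

theorem nc_check : ([1, 2, 3, 65, 66, 67].all fun c => memL c 0 && Nat.ble (c + 1) 128) = true := by decide +kernel

theorem nc_code {c : ℕ} (h : c ∈ [1, 2, 3, 65, 66, 67]) : D.phi c ∈ D.NcG := by
  have hm := List.all_eq_true.1 nc_check c h
  simp only [Bool.and_eq_true, Nat.ble_eq] at hm
  have hc0 : c ≠ 0 := by rintro rfl; simp at h
  refine ⟨(D.phi_mem c).1, fun e => hc0 (D.phi_inj (by omega) (by norm_num) (e.trans D.phi_zero.symm)), fun e => ?_⟩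
  rw [D.conj_phi (by omega) hc0, hm.1] at e
  exact Bool.noConfusion e

/-- The centraliser of the four-group in `G`. -/
abbrev LL : Subgroup G := Subgroup.centralizer (four D : Set G)

theorem mem_LL {g : G} : g ∈ LL D ↔ g * D.phi 1 = D.phi 1 * g ∧ g * D.phi 2 = D.phi 2 * g := by
  refine ⟨fun h => ⟨((mem_centralizer_iff.1 h) _ (phi_mem_four D (by norm_num))).symm,
    ((mem_centralizer_iff.1 h) _ (phi_mem_four D (by norm_num))).symm⟩, fun h => mem_centralizer_iff.2 ?_⟩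
  rintro _ ⟨k, hk, rfl⟩
  have h3 : g * (D.phi 1 * D.phi 2) = D.phi 1 * D.phi 2 * g := ((show Commute g _ from h.1).mul_right h.2).eq
  rw [D.phi_mul] at h3
  interval_cases k
  · rw [D.phi_zero]; simp
  · exact h.1.symm
  · exact h.2.symm
  · exact h3.symm

theorem A_LL : D.A ≤ LL D := fun a ha => (mem_LL D).2
  ⟨D.A_comm ha (D.phi_mem 1).1, D.A_comm ha (D.phi_mem 2).1⟩

theorem z_LL : z ∈ LL D := A_LL D D.z_mem_A

theorem four_fix {g x : G} (hg : g ∈ LL D) (hx : x ∈ four D) : g * x * g⁻¹ = x := by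
  rw [← mem_centralizer_iff.1 hg x hx, mul_inv_cancel_right]

theorem low_four {q : G} (hq : q ∈ Y.Qg) : q ∈ LL D ↔ low (codeOf (D.co q)) = true := by
  have key : ∀ c, q * D.phi c = D.phi c * q ↔ btC (codeOf (D.co q)) (bwC D.b (c % 64)) = false := fun c => by
    rw [D.co_comm q hq _ (D.phi_mem c).2, D.co_phi, ← b2_eq_zero]
    conv_lhs => rw [← (codeOf_spec (D.co q)).2, btV_vecOf]
  rw [mem_LL, key, key, low_iff, show (1 : ℕ) % 64 = 1 from rfl, show (2 : ℕ) % 64 = 2 from rfl,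
    (bw_small D.b).1, (bw_small D.b).2.1]

/-- The four coordinates of an element of `Q`. -/
noncomputable def wv (q : G) : UCent.W := wN (codeOf (D.co q))

theorem codeOf_mul {p q : G} (hp : p ∈ Y.Qg) (hq : q ∈ Y.Qg) :
    codeOf (D.co (p * q)) = Nat.xor (codeOf (D.co p)) (codeOf (D.co q)) := by
  rw [D.co_mul p hp q hq, codeOf_add]

theorem wv_mul {p q : G} (hp : p ∈ Y.Qg) (hq : q ∈ Y.Qg) : wv D (p * q) = wv D p + wv D q := by
  rw [wv, codeOf_mul D hp hq, wN_xor (codeOf_spec _).1 (codeOf_spec _).1]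
  rfl

theorem wv_inv {q : G} (hq : q ∈ Y.Qg) : wv D q⁻¹ = wv D q := by rw [wv, D.co_inv hq]; rfl

theorem wv_inZ {e : G} (he : InZ z e) : wv D e = 0 := by
  rw [wv, D.co_inZ he, ← vecOf_zero, codeOf_vecOf (by norm_num : (0 : ℕ) < 4096)]; rfl

theorem wv_four {x : G} (hx : x ∈ four D) : wv D x = 0 := by
  obtain ⟨k, hk, rfl⟩ := hx
  rw [wv, D.co_phi, codeOf_vecOf (bwC_lt _ _), Nat.mod_eq_of_lt (by omega : k < 64)]
  have h := List.all_eq_true.1 (bw_small D.b).2.2 k (List.mem_range.2 hk)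
  rw [Bool.and_eq_true] at h
  exact UCent.W.ext' (Nat.eq_of_beq_eq_true h.1)

theorem wv_phi_flat {q : G} (hq : q ∈ Y.Qg) (hl : q ∈ LL D) :
    UCent.flat (wv D q) = true ↔ Cocode.IsFlat (D.co q) := by
  rw [wv, flat_wN (codeOf_spec _).1 ((low_four D hq).1 hl), (codeOf_spec _).2]

/-- The elements with trivial coordinates. -/
theorem wv_eq_zero {q : G} (hq : q ∈ Y.Qg) (hl : q ∈ LL D) (h : wv D q = 0) :
    ∃ e x, InZ z e ∧ x ∈ four D ∧ q = e * x := by
  have hlow := (low_four D hq).1 hl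
  have key : ∀ b, ([0, 5, 10, 15].all fun n => (List.range 4).any fun k => Nat.beq (bwC b k) n) = true := by
    decide +kernel
  have hn : codeOf (D.co q) ∈ [0, 5, 10, 15] := by
    rcases wN_zero (codeOf_spec _).1 hlow h with e | e | e | e <;> simp [e]
  obtain ⟨k, hk, he⟩ := List.any_eq_true.1 (List.all_eq_true.1 (key D.b) _ hn)
  rw [List.mem_range] at hk
  obtain ⟨e, he', hqe⟩ := D.co_eq hq (D.phi_mem k).2 (by
    rw [D.co_phi, Nat.mod_eq_of_lt (by omega : k < 64), Nat.eq_of_beq_eq_true he, (codeOf_spec _).2])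
  exact ⟨e, _, he', phi_mem_four D hk, hqe⟩

/-- The part of the centraliser of `z`. -/
abbrev Cz : Subgroup G := LL D ⊓ Subgroup.centralizer ({z} : Set G)

theorem exists_lift_wv (w : UCent.W) : ∃ q, q ∈ Y.Qg ∧ q ∈ LL D ∧ wv D q = w := by
  have hlt : w.code.val * 16 < 4096 := by have := w.code.2; omega
  obtain ⟨q, hq, e⟩ := D.co_surj (vecOf (w.code.val * 16))
  have hc : codeOf (D.co q) = w.code.val * 16 := by rw [e, codeOf_vecOf hlt]
  refine ⟨q, hq, (low_four D hq).2 ?_, ?_⟩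
  · rw [hc]
    simp only [low, show w.code.val * 16 % 4 = 0 by omega, show w.code.val * 16 / 4 % 4 = 0 by omega, Nat.beq_refl]
  · rw [wv, hc, wN, Nat.mul_div_cancel _ (by norm_num : 0 < 16), UCent.W.mk'_val]

/-- A lift of coordinates. -/
noncomputable def sec (w : UCent.W) : G := (exists_lift_wv D w).choose

theorem sec_Qg (w : UCent.W) : sec D w ∈ Y.Qg := (exists_lift_wv D w).choose_spec.1

theorem sec_LL (w : UCent.W) : sec D w ∈ LL D := (exists_lift_wv D w).choose_spec.2.1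

theorem wv_sec (w : UCent.W) : wv D (sec D w) = w := (exists_lift_wv D w).choose_spec.2.2

theorem Qg_Cz {q : G} (hq : q ∈ Y.Qg) (hl : q ∈ LL D) : q ∈ Cz D := ⟨hl, Y.le_cen hq⟩

theorem A_Cz {a : G} (ha : a ∈ D.A) : a ∈ Cz D := ⟨A_LL D ha, D.A_cen ha⟩

theorem conj_QL {c q : G} (hc : c ∈ Cz D) (hq : q ∈ Y.Qg) (hl : q ∈ LL D) :
    c * q * c⁻¹ ∈ Y.Qg ∧ c * q * c⁻¹ ∈ LL D :=
  ⟨Y.normQ c hc.2 q hq, mul_mem (mul_mem hc.1 hl) (inv_mem hc.1)⟩

theorem conj_trivial {c q : G} (hc : c ∈ Cz D) (hq : q ∈ Y.Qg) (hl : q ∈ LL D) (h : wv D q = 0) :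
    c * q * c⁻¹ = q := by
  obtain ⟨e, x, he, hx, rfl⟩ := wv_eq_zero D hq hl h
  rw [show c * (e * x) * c⁻¹ = c * e * c⁻¹ * (c * x * c⁻¹) by group, four_fix D hc.1 hx,
    Y.zcomm hc.2 he, mul_inv_cancel_right]

/-- The action on coordinates. -/
noncomputable def act (c : G) (w : UCent.W) : UCent.W := wv D (c * sec D w * c⁻¹)

theorem act_wv {c q : G} (hc : c ∈ Cz D) (hq : q ∈ Y.Qg) (hl : q ∈ LL D) :
    wv D (c * q * c⁻¹) = act D c (wv D q) := by
  set p := sec D (wv D q)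
  have hp := sec_Qg D (wv D q)
  have hp' := sec_LL D (wv D q)
  have h0 : wv D (p⁻¹ * q) = 0 := by
    rw [wv_mul D (inv_mem hp) hq, wv_inv D hp, wv_sec, UCent.W.add_self]
  have e := conj_trivial D hc (mul_mem (inv_mem hp) hq) (mul_mem (inv_mem hp') hl) h0
  show _ = wv D (c * p * c⁻¹)
  rw [show c * q * c⁻¹ = c * p * c⁻¹ * (c * (p⁻¹ * q) * c⁻¹) by group, e,
    wv_mul D (conj_QL D hc hp hp').1 (mul_mem (inv_mem hp) hq), h0, add_zero]

theorem act_add {c : G} (hc : c ∈ Cz D) (x y : UCent.W) : act D c (x + y) = act D c x + act D c y := by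
  have hx := sec_Qg D x
  have hy := sec_Qg D y
  have hx' := sec_LL D x
  have hy' := sec_LL D y
  show _ = wv D (c * sec D x * c⁻¹) + wv D (c * sec D y * c⁻¹)
  rw [← wv_mul D (conj_QL D hc hx hx').1 (conj_QL D hc hy hy').1,
    show c * sec D x * c⁻¹ * (c * sec D y * c⁻¹) = c * (sec D x * sec D y) * c⁻¹ by group,
    act_wv D hc (mul_mem hx hy) (mul_mem hx' hy'), wv_mul D hx hy, wv_sec, wv_sec]

theorem act_mul {c d : G} (hc : c ∈ Cz D) (hd : d ∈ Cz D) (w : UCent.W) :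
    act D (c * d) w = act D c (act D d w) := by
  have h := conj_QL D hd (sec_Qg D w) (sec_LL D w)
  show wv D (c * d * sec D w * (c * d)⁻¹) = act D c (wv D (d * sec D w * d⁻¹))
  rw [← act_wv D hc h.1 h.2]
  congr 1; group

theorem act_one (w : UCent.W) : act D 1 w = w := by
  rw [act, one_mul, inv_one, mul_one, wv_sec]

theorem act_inv {c : G} (hc : c ∈ Cz D) (w : UCent.W) : act D c⁻¹ (act D c w) = w := by
  rw [← act_mul D (inv_mem hc) hc, inv_mul_cancel, act_one]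

theorem act_inv' {c : G} (hc : c ∈ Cz D) (w : UCent.W) : act D c (act D c⁻¹ w) = w := by
  rw [← act_mul D hc (inv_mem hc), mul_inv_cancel, act_one]

theorem act_Qg {q : G} (hq : q ∈ Y.Qg) (hl : q ∈ LL D) (w : UCent.W) : act D q w = w := by
  have h := sec_Qg D w
  rw [act, wv_mul D (mul_mem hq h) (inv_mem hq), wv_mul D hq h, wv_inv D hq, wv_sec, add_comm (wv D q) w,
    add_assoc, UCent.W.add_self, add_zero]

theorem comm_iff {p q : G} (hp : p ∈ Y.Qg) (hq : q ∈ Y.Qg) (hp' : p ∈ LL D) (hq' : q ∈ LL D) :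
    p * q = q * p ↔ UCent.bt (wv D p) (wv D q) = false := by
  rw [D.co_comm p hp q hq, wv, wv, bt_wN (codeOf_spec _).1 (codeOf_spec _).1 ((low_four D hp).1 hp')
    ((low_four D hq).1 hq'), ← b2_eq_zero]
  conv_lhs => rw [← (codeOf_spec (D.co p)).2, ← (codeOf_spec (D.co q)).2, btV_vecOf]

theorem sq_iff {q : G} (hq : q ∈ Y.Qg) (hq' : q ∈ LL D) : q * q = 1 ↔ UCent.qW (wv D q) = false := by
  rw [D.co_sq q hq, wv, qW_wN (codeOf_spec _).1 ((low_four D hq).1 hq'), ← b2_eq_zero]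
  conv_lhs => rw [← (codeOf_spec (D.co q)).2, qV_vecOf]

theorem act_bt {c : G} (hc : c ∈ Cz D) (x y : UCent.W) : UCent.bt (act D c x) (act D c y) = UCent.bt x y := by
  have hx := conj_QL D hc (sec_Qg D x) (sec_LL D x)
  have hy := conj_QL D hc (sec_Qg D y) (sec_LL D y)
  have e := comm_iff D hx.1 hy.1 hx.2 hy.2
  have e' := comm_iff D (sec_Qg D x) (sec_Qg D y) (sec_LL D x) (sec_LL D y)
  rw [wv_sec, wv_sec] at e'
  have h : c * sec D x * c⁻¹ * (c * sec D y * c⁻¹) = c * sec D y * c⁻¹ * (c * sec D x * c⁻¹) ↔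
      sec D x * sec D y = sec D y * sec D x := by
    rw [show c * sec D x * c⁻¹ * (c * sec D y * c⁻¹) = c * (sec D x * sec D y) * c⁻¹ by group,
      show c * sec D y * c⁻¹ * (c * sec D x * c⁻¹) = c * (sec D y * sec D x) * c⁻¹ by group]
    exact ⟨fun h => mul_left_cancel (mul_right_cancel h), fun h => by rw [h]⟩
  rw [h, e'] at e
  show UCent.bt (wv D _) (wv D _) = _
  revert e
  cases UCent.bt (wv D (c * sec D x * c⁻¹)) (wv D (c * sec D y * c⁻¹)) <;> cases UCent.bt x y <;> simp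

/-! ### Linearity -/

theorem low_omC {n : ℕ} (hn : n < 4096) (hl : low n = true) : low (omC n) = true := by
  refine low_induction (P := fun n => low (omC n) = true) (by decide +kernel) ?_ (fun a b _ _ h1 h2 => ?_) hn hl
  · intro g hg
    have key : (lowGen.all fun g => low (omC g)) = true := by decide +kernel
    exact List.all_eq_true.1 key g hg
  · rw [show omC (Nat.xor a b) = Nat.xor (omC a) (omC b) from linC_xor _ a b, low_iff, btC_xor, btC_xor,
      ((low_iff _).1 h1).1, ((low_iff _).1 h1).2, ((low_iff _).1 h2).1, ((low_iff _).1 h2).2]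
    exact ⟨rfl, rfl⟩

theorem code_sh {q : G} (hq : q ∈ Y.Qg) : codeOf (D.co (Y.sh q)) = omC (codeOf (D.co q)) := by
  rw [D.co_sh q hq]
  conv_lhs => rw [← (codeOf_spec (D.co q)).2, omV_vecOf (codeOf_spec _).1]
  exact codeOf_vecOf (omC_lt _)

theorem sh_LL {q : G} (hq : q ∈ Y.Qg) (hl : q ∈ LL D) : Y.sh q ∈ LL D :=
  (low_four D (Y.sh_mem hq)).2 (by
    rw [code_sh D hq]; exact low_omC (codeOf_spec _).1 ((low_four D hq).1 hl))

theorem lin_M {c : G} (hc : c ∈ Y.M) {q : G} (hq : q ∈ Y.Qg) :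
    D.co (c * Y.sh q * c⁻¹) = Four.omV (D.co (c * q * c⁻¹)) := by
  have hq' := Y.normQ c (Y.Mle hc) q hq
  set r := c * Y.ξ * c⁻¹ * Y.ξ⁻¹ with hr
  have hrQ : r ∈ Y.Qg := Y.xiC c hc
  obtain ⟨e, he, h⟩ := Y.comm' hrQ (Y.sh_mem hq')
  have e1 : c * Y.sh q * c⁻¹ = e * Y.sh (c * q * c⁻¹) := by
    calc c * Y.sh q * c⁻¹ = r * Y.sh (c * q * c⁻¹) * r⁻¹ := by
          rw [hr]; simp only [CfsgLib.FischerTwoFour.Sys.sh]; group
      _ = e * Y.sh (c * q * c⁻¹) := by rw [h]; group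
  rw [e1, D.co_mul e (Y.inZ_mem he) _ (Y.sh_mem hq'), D.co_inZ he, zero_add, D.co_sh _ hq']

section outer

variable (hout : ∀ c ∈ Subgroup.centralizer ({z} : Set G), c ∉ Y.M → ∀ q ∈ Y.Qg,
  D.co (c * Y.sh q * c⁻¹) = Four.omV (Four.omV (D.co (c * q * c⁻¹))))

include hout

theorem co_phi_two : D.co (D.phi 2) = Four.omV (D.co (D.phi 1)) := by
  rw [D.co_phi, D.co_phi, show (2 : ℕ) % 64 = 2 from rfl, show (1 : ℕ) % 64 = 1 from rfl, (bw_small D.b).2.1,
    (bw_small D.b).1, omV_vecOf (by norm_num)]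
  exact congrArg vecOf (by decide +kernel)

theorem Cz_M {c : G} (hc : c ∈ Cz D) : c ∈ Y.M := by
  by_contra hcM
  have h1 : c * D.phi 1 * c⁻¹ = D.phi 1 := four_fix D hc.1 (phi_mem_four D (by norm_num))
  have h2 : c * D.phi 2 * c⁻¹ = D.phi 2 := four_fix D hc.1 (phi_mem_four D (by norm_num))
  obtain ⟨e, he, hsh⟩ := D.co_eq (Y.sh_mem (D.phi_mem 1).2) (D.phi_mem 2).2
    (by rw [D.co_sh _ (D.phi_mem 1).2, co_phi_two D hout])
  have h := hout c hc.2 hcM _ (D.phi_mem 1).2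
  rw [h1, hsh, show c * (e * D.phi 2) * c⁻¹ = c * e * c⁻¹ * (c * D.phi 2 * c⁻¹) by group, h2,
    Y.zcomm hc.2 he, mul_inv_cancel_right, ← hsh, D.co_sh _ (D.phi_mem 1).2, D.co_phi,
    show (1 : ℕ) % 64 = 1 from rfl, (bw_small D.b).1, omV_vecOf (by norm_num : (5 : ℕ) < 4096),
    omV_vecOf (omC_lt _)] at h
  exact absurd (vecOf_inj (omC_lt _) (omC_lt _) h) (by decide +kernel)

theorem act_om {c : G} (hc : c ∈ Cz D) (w : UCent.W) : act D c (UCent.om w) = UCent.om (act D c w) := by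
  have hq := sec_Qg D w
  have hl := sec_LL D w
  have hsh : wv D (Y.sh (sec D w)) = UCent.om w := by
    rw [wv, code_sh D hq, om_wN (codeOf_spec _).1]
    exact congrArg UCent.om (wv_sec D w)
  have hq' := conj_QL D hc hq hl
  have hco : codeOf (D.co (c * Y.sh (sec D w) * c⁻¹)) = omC (codeOf (D.co (c * sec D w * c⁻¹))) := by
    rw [lin_M D (Cz_M D hout hc) hq, ← D.co_sh _ hq'.1, code_sh D hq'.1]
  rw [← hsh, ← act_wv D hc (Y.sh_mem hq) (sh_LL D hq hl), wv, hco, om_wN (codeOf_spec _).1]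
  rfl

theorem act_perp {c : G} (hc : c ∈ Cz D) (x y : UCent.W) :
    UCent.perp (act D c x) (act D c y) = UCent.perp x y := by
  simp only [UCent.perp, ← act_om D hout hc, act_bt D hc]

end outer

theorem act_zero {c : G} (hc : c ∈ Cz D) : act D c 0 = 0 := by
  have := act_add D hc 0 0
  rw [add_zero] at this
  exact left_eq_add.1 this

theorem act_flat {a : G} (ha : a ∈ D.A) {w : UCent.W} (hw : UCent.flat w = true) : act D a w = w := by
  have hq := sec_Qg D w
  have hl := sec_LL D w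
  have hA : sec D w ∈ D.A := (D.A_Q _ hq).2 ((wv_phi_flat D hq hl).1 (by rw [wv_sec]; exact hw))
  rw [act, D.A_comm ha hA, mul_inv_cancel_right, wv_sec]

/-- The map of an element of `A` on the coordinates. -/
theorem act_A {a : G} {n : ℕ} (ha : a ∈ D.A) (hn : n < 16) (h : D.Acts a n) (w : UCent.W) :
    act D a w = actW D.b n w := by
  have hq := sec_Qg D w
  have hlow := (low_four D hq).1 (sec_LL D w)
  have hlt := (codeOf_spec (D.co (sec D w))).1
  have hc : codeOf (D.co (a * sec D w * a⁻¹)) = RC D.b n (codeOf (D.co (sec D w))) := by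
    rw [h _ hq]
    conv_lhs => rw [← (codeOf_spec (D.co (sec D w))).2, D.Rf_code hn hlt]
    exact codeOf_vecOf (RC_lt hn _)
  rw [act, wv, hc, (RC_wN hn hlt hlow).2]
  exact congrArg (actW D.b n) (wv_sec D w)

theorem acts_zero_of_triv {a : G} {n : ℕ} (ha : a ∈ D.A) (hn : n < 16) (h : D.Acts a n)
    (htriv : ∀ w, act D a w = w) : n = 0 := by
  by_contra hn0
  have := List.all_eq_true.1 (actW_triv D.b) n (List.mem_range.2 hn)
  rw [show Nat.beq n 0 = false from Bool.eq_false_iff.2 fun e => hn0 (Nat.eq_of_beq_eq_true e), Bool.false_or,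
    List.any_eq_true] at this
  obtain ⟨j, -, hj⟩ := this
  rw [← act_A D ha hn h, htriv] at hj
  simp at hj


/-- Faithful modulo `Q`. -/
theorem mem_Qg_of_act {g : G} (hg : g ∈ Cz D) (htriv : ∀ w, act D g w = w) : g ∈ Y.Qg := by
  classical
  have htinv : ∀ w, act D g⁻¹ w = w := fun w => by
    conv_lhs => rw [← htriv w]
    exact act_inv D hg w
  have hdef : ∀ c, c ∈ Cz D → (∀ w, act D c w = w) → ∀ q ∈ Y.Qg, q ∈ LL D →
      ∃ d, d ∈ D.A ∧ d ∈ Y.Qg ∧ c * q * c⁻¹ = q * d ∧ ∀ m ∈ Cz D, m * d * m⁻¹ = d := by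
    intro c hc ht q hq hl
    have h' := conj_QL D hc hq hl
    have h0 : wv D (q⁻¹ * (c * q * c⁻¹)) = 0 := by
      rw [wv_mul D (inv_mem hq) h'.1, wv_inv D hq, act_wv D hc hq hl, ht, UCent.W.add_self]
    obtain ⟨e, x, he, hx, hex⟩ := wv_eq_zero D (mul_mem (inv_mem hq) h'.1) (mul_mem (inv_mem hl) h'.2) h0
    refine ⟨e * x, mul_mem (D.inZ_Bg he).1 (four_Bg D hx).1, mul_mem (Y.inZ_mem he) (four_Bg D hx).2,
      by rw [← hex]; group, fun m hm => ?_⟩
    rw [show m * (e * x) * m⁻¹ = m * e * m⁻¹ * (m * x * m⁻¹) by group, four_fix D hm.1 hx,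
      Y.zcomm hm.2 he, mul_inv_cancel_right]
  -- commutators with `A` lie in `Q`
  have hcomm : ∀ a ∈ D.A, g * a * g⁻¹ * a ∈ Y.Qg := by
    intro a ha
    have hac := A_Cz D ha
    have hyc : g * a * g⁻¹ * a ∈ Cz D := mul_mem (mul_mem (mul_mem hg hac) (inv_mem hg)) hac
    obtain ⟨a', ha', hay⟩ := D.A_full _ hyc.2 fun q hq hf => by
      have hqA : q ∈ D.A := (D.A_Q q hq).2 hf
      obtain ⟨d, hd, hdQ, hgd, hfix⟩ := hdef g⁻¹ (inv_mem hg) htinv q hq (A_LL D hqA)
      rw [inv_inv] at hgd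
      refine congrArg D.co ?_
      calc g * a * g⁻¹ * a * q * (g * a * g⁻¹ * a)⁻¹
          = g * a * g⁻¹ * (a * q * a⁻¹) * g * a⁻¹ * g⁻¹ := by group
        _ = g * a * (g⁻¹ * q * g) * a⁻¹ * g⁻¹ := by rw [D.A_comm ha hqA, mul_inv_cancel_right]; group
        _ = g * (g⁻¹ * q * g) * g⁻¹ := by
            rw [hgd, mul_assoc g a, D.A_comm ha (mul_mem hqA hd)]; group
        _ = q := by group
    obtain ⟨n, hn, hact⟩ := D.A_act a' ha'
    have h0 : n = 0 := acts_zero_of_triv D ha' hn hact fun w => by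
      have e : ∀ w, act D (g * a * g⁻¹ * a) w = w := fun w => by
        rw [act_mul D (mul_mem (mul_mem hg hac) (inv_mem hg)) hac, act_mul D (mul_mem hg hac) (inv_mem hg),
          htinv, act_mul D hg hac, htriv, ← act_mul D hac hac, D.A_sq a ha, act_one]
      have e2 := act_Qg D hay (mul_mem (A_LL D ha') hyc.1) w
      rwa [act_mul D (A_Cz D ha') hyc, e] at e2
    subst h0
    have := (D.acts_zero_iff ha').1 hact
    simpa using mul_mem (inv_mem this) hay
  -- the displacements are fixed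
  have hfixd : ∀ n, n < 16 → ∀ y, y < 4096 → low y = true →
      ∀ q ∈ Y.Qg, codeOf (D.co q) = Nat.xor (RC D.b n y) y → D.co (g * q * g⁻¹) = D.co q := by
    intro n hn y hy hly q hq hcq
    obtain ⟨p, hp, hpy⟩ := D.co_surj (vecOf y)
    have hpl : p ∈ LL D := (low_four D hp).2 (by rw [hpy, codeOf_vecOf hy]; exact hly)
    obtain ⟨a, ha, hact⟩ := D.act_A n hn
    have hac := A_Cz D ha
    set p' := a * p * a⁻¹ with hp'
    have hp'Q := conj_QL D hac hp hpl
    obtain ⟨d, hd, hdQ, hgp, hfix⟩ := hdef g hg htriv p hp hpl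
    set r := g * a * g⁻¹ * a
    have hr := hcomm a ha
    have e : g * p' * g⁻¹ = r * (a * p * a⁻¹) * r⁻¹ * d := by
      have hda : a⁻¹ * d * a = d := by
        have := hfix _ (inv_mem hac); rwa [inv_inv] at this
      have hdr : r * d * r⁻¹ = d := hfix _ (mul_mem (mul_mem (mul_mem hg hac) (inv_mem hg)) hac)
      calc g * p' * g⁻¹ = r * a⁻¹ * (g * p * g⁻¹) * a * r⁻¹ := by rw [hp']; simp only [r]; group
        _ = r * (a⁻¹ * p * a) * (a⁻¹ * d * a) * r⁻¹ := by rw [hgp]; group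
        _ = r * (a⁻¹ * p * a) * r⁻¹ * (r * d * r⁻¹) := by rw [hda]; group
        _ = r * (a * p * a⁻¹) * r⁻¹ * d := by rw [hdr, D.A_inv ha]
    have hcop : D.co (g * p' * g⁻¹) = D.co p' + D.co d := by
      rw [e, ← hp', D.co_mul _ (mul_mem (mul_mem hr hp'Q.1) (inv_mem hr)) _ hdQ,
        D.co_mul _ (mul_mem hr hp'Q.1) _ (inv_mem hr), D.co_mul _ hr _ hp'Q.1, D.co_inv hr,
        add_comm (D.co r) (D.co p'), add_assoc (D.co p'), Four.vec_add_self, add_zero]
    have hcgp : D.co (g * p * g⁻¹) = D.co p + D.co d := by rw [hgp, D.co_mul p hp d hdQ]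
    have hq' : D.co q = D.co (p' * p) := by
      rw [D.co_mul _ hp'Q.1 _ hp, hact p hp, hpy, D.Rf_code hn hy, ← vecOf_xor, ← hcq, (codeOf_spec _).2]
    obtain ⟨e0, he0, hqe⟩ := D.co_eq hq (mul_mem hp'Q.1 hp) hq'
    rw [hqe, show g * (e0 * (p' * p)) * g⁻¹ = g * e0 * g⁻¹ * (g * p' * g⁻¹ * (g * p * g⁻¹)) by group,
      Y.zcomm hg.2 he0, mul_inv_cancel_right, D.co_mul e0 (Y.inZ_mem he0) _
        (mul_mem (Y.normQ g hg.2 _ hp'Q.1) (Y.normQ g hg.2 _ hp)),
      D.co_mul _ (Y.normQ g hg.2 _ hp'Q.1) _ (Y.normQ g hg.2 _ hp), hcop, hcgp,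
      D.co_mul e0 (Y.inZ_mem he0) _ (mul_mem hp'Q.1 hp), D.co_mul _ hp'Q.1 _ hp]
    rw [show D.co p' + D.co d + (D.co p + D.co d) = D.co p' + D.co p + (D.co d + D.co d) by abel,
      Four.vec_add_self, add_zero]
  let Fix : ℕ → Prop := fun y => ∀ q ∈ Y.Qg, D.co q = vecOf y → D.co (g * q * g⁻¹) = D.co q
  have hxor : ∀ a b, Fix a → Fix b → Fix (Nat.xor a b) := by
    intro a b ha hb q hq hqe
    obtain ⟨u, hu, hue⟩ := D.co_surj (vecOf a)
    have hv : D.co (u⁻¹ * q) = vecOf b := by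
      rw [D.co_mul _ (inv_mem hu) _ hq, D.co_inv hu, hue, hqe, vecOf_xor, ← add_assoc, Four.vec_add_self, zero_add]
    have e1 := ha u hu hue
    have e2 := hb _ (mul_mem (inv_mem hu) hq) hv
    rw [show g * q * g⁻¹ = g * u * g⁻¹ * (g * (u⁻¹ * q) * g⁻¹) by group,
      D.co_mul _ (Y.normQ g hg.2 _ hu) _ (Y.normQ g hg.2 _ (mul_mem (inv_mem hu) hq)), e1, e2, hue, hv, hqe,
      vecOf_xor]
  have hzero : Fix 0 := fun q hq hqe => by
    rw [vecOf_zero] at hqe
    have := (D.co_zero q hq).1 hqe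
    rw [Y.zcomm hg.2 this, mul_inv_cancel_right]
  have hbasis : ∀ j, j < 6 → Fix (bwC D.b (2 ^ j)) := by
    intro j hj
    have h := List.all_eq_true.1 (span_check D.b) j (List.mem_range.2 hj)
    simp only [Bool.and_eq_true, List.all_eq_true, Nat.ble_eq] at h
    rw [← Nat.eq_of_beq_eq_true h.1]
    have hall := h.2
    generalize (spanW D.b).getD j [] = T at hall ⊢
    induction T with
    | nil => exact hzero
    | cons p T ih =>
      obtain ⟨⟨h1, h2⟩, h3⟩ := hall p List.mem_cons_self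
      refine hxor _ _ (fun q hq hqe => hfixd p.1 (by omega) p.2 (by omega) h3 q hq ?_)
        (ih fun x hx => hall x (List.mem_cons_of_mem _ hx))
      rw [hqe, codeOf_vecOf (xor_lt' (k := 12) (RC_lt (by omega) _) (by omega : p.2 < 4096))]
  obtain ⟨a, ha, hag⟩ := D.A_full g hg.2 fun q hq hf => by
    obtain ⟨x, hx, hxe⟩ := (flat_iff D.b _).1 hf
    refine (xor_induction (P := fun x => Fix (bwC D.b x)) (k := 6) ?_ hbasis (fun a b h1 h2 => ?_) x hx) q hq hxe.symm
    · rw [bwC, linC_zero]; exact hzero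
    · rw [bwC, linC_xor]; exact hxor _ _ h1 h2
  obtain ⟨n, hn, hact⟩ := D.A_act a ha
  have h0 : n = 0 := acts_zero_of_triv D ha hn hact fun w => by
    have e2 := act_Qg D hag (mul_mem (A_LL D ha) hg.1) w
    rwa [act_mul D (A_Cz D ha) hg, htriv] at e2
  subst h0
  have := (D.acts_zero_iff ha).1 hact
  simpa using mul_mem (inv_mem this) hag

end CfsgLib.FischerTwoFour.FourCert
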