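import Mathlib
import Cfsg.Agent.Lib.FischerTwoFour.Cocode.Elem
import Cfsg.Agent.Lib.ThreeTrans.UCent.Geom

/-!
Certificates for the centraliser of a four-group of `Q` outside the class of `z`: the codes orthogonal
to the line of the pair `01`, their images in the four-dimensional unitary space, the sixteen maps
there, and the elements of `A` all of whose translates by the four-group leave the class.
-/

set_option autoImplicit false
set_option maxRecDepth 100000
set_option Elab.async false

namespace CfsgLib.FischerTwoFour.FourCert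

open CfsgLib.FischerTwoFour.Cocode
open CfsgLib.ThreeTrans

/-- The code of a vector. -/
noncomputable def codeOf (v : Four.Vec) : ℕ := (vecOf_surj v).choose

theorem codeOf_spec (v : Four.Vec) : codeOf v < 4096 ∧ vecOf (codeOf v) = v := (vecOf_surj v).choose_spec

theorem codeOf_vecOf {n : ℕ} (h : n < 4096) : codeOf (vecOf n) = n :=
  vecOf_inj (codeOf_spec _).1 h (codeOf_spec _).2

theorem codeOf_add (u v : Four.Vec) : codeOf (u + v) = Nat.xor (codeOf u) (codeOf v) := by
  refine vecOf_inj (codeOf_spec _).1 (xor_lt' (k := 12) (codeOf_spec u).1 (codeOf_spec v).1) ?_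
  rw [(codeOf_spec _).2, vecOf_xor, (codeOf_spec u).2, (codeOf_spec v).2]

/-- The last four coordinates of a code. -/
def wN (n : ℕ) : UCent.W := UCent.W.mk' (n / 16)

theorem wN_xor {a b : ℕ} (ha : a < 4096) (hb : b < 4096) : wN (Nat.xor a b) = wN a + wN b := by
  refine UCent.W.ext' ?_
  rw [UCent.W.add_code, wN, wN, wN, UCent.W.mk'_code (by omega : a / 16 < 256),
    UCent.W.mk'_code (by omega : b / 16 < 256)]
  have h : Nat.xor a b < 4096 := xor_lt' (k := 12) ha hb
  rw [UCent.W.mk'_code (by omega : Nat.xor a b / 16 < 256), nxor]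
  show _ = _
  rw [show (16 : ℕ) = 2 ^ 4 from rfl, ← Nat.shiftRight_eq_div_pow, ← Nat.shiftRight_eq_div_pow,
    ← Nat.shiftRight_eq_div_pow, Nat.shiftRight_xor_distrib]

/-- The first two coordinates agree. -/
def low (n : ℕ) : Bool := Nat.beq (n % 4) (n / 4 % 4)

/-- Generators of the codes with equal first coordinates. -/
def lowGen : List ℕ := [5, 10, 16, 32, 64, 128, 256, 512, 1024, 2048]

theorem low_gen : (lowGen.all fun g => Nat.ble (g + 1) 4096 && low g) = true := by decide +kernel

theorem low_small : ((List.range 16).all fun k => !low k || [0, 5, 10, 15].contains k) = true := by decide +kernel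

theorem low_induction {P : ℕ → Prop} (h0 : P 0) (hg : ∀ g ∈ lowGen, P g)
    (hx : ∀ a b, a < 4096 → b < 4096 → P a → P b → P (Nat.xor a b)) {n : ℕ} (hn : n < 4096)
    (hl : low n = true) : P n := by
  have hhi : ∀ k, k < 256 → 16 * k < 4096 ∧ P (16 * k) := by
    intro k hk
    refine xor_induction (P := fun k => 16 * k < 4096 ∧ P (16 * k)) (k := 8) ⟨by norm_num, h0⟩ (fun j hj => ?_)
      (fun a b ha hb => ?_) k hk
    · have key : ((List.range 8).all fun j => lowGen.contains (16 * 2 ^ j) && Nat.ble (16 * 2 ^ j + 1) 4096) = true := by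
        decide +kernel
      have := List.all_eq_true.1 key j (List.mem_range.2 hj)
      simp only [Bool.and_eq_true, List.contains_iff_mem, Nat.ble_eq] at this
      exact ⟨this.2, hg _ this.1⟩
    · have e : 16 * Nat.xor a b = Nat.xor (16 * a) (16 * b) := by
        simp only [nxor, show (16 : ℕ) = 2 ^ 4 from rfl, mul_comm ((2 : ℕ) ^ 4), ← Nat.shiftLeft_eq,
          Nat.shiftLeft_xor_distrib]
      rw [e]
      exact ⟨xor_lt' (k := 12) ha.1 hb.1, hx _ _ ha.1 hb.1 ha.2 hb.2⟩
  have hsplit : Nat.xor (16 * (n / 16)) (n % 16) = n := by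
    apply Nat.eq_of_testBit_eq
    intro i
    rw [nxor, Nat.testBit_xor, show (16 : ℕ) = 2 ^ 4 from rfl, Nat.testBit_two_pow_mul, Nat.testBit_mod_two_pow,
      Nat.testBit_div_two_pow]
    by_cases hi : i < 4
    · simp [hi, Nat.not_le.2 hi]
    · simp [hi, Nat.not_lt.1 hi, show i - 4 + 4 = i by omega]
  have hlo : n % 16 < 4096 ∧ P (n % 16) := by
    have hm : low (n % 16) = true := by
      simp only [low] at hl ⊢
      rwa [show n % 16 % 4 = n % 4 by omega, show n % 16 / 4 % 4 = n / 4 % 4 by omega]
    have := List.all_eq_true.1 low_small (n % 16) (List.mem_range.2 (Nat.mod_lt _ (by norm_num)))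
    rw [hm] at this
    simp only [Bool.not_true, Bool.false_or, List.contains_iff_mem, List.mem_cons, List.not_mem_nil, or_false] at this
    refine ⟨by omega, ?_⟩
    rcases this with e | e | e | e <;> rw [e]
    · exact h0
    · exact hg 5 (by decide)
    · exact hg 10 (by decide)
    · rw [show (15 : ℕ) = Nat.xor 5 10 from rfl]
      exact hx 5 10 (by norm_num) (by norm_num) (hg 5 (by decide)) (hg 10 (by decide))
  obtain ⟨h1, h2⟩ := hhi (n / 16) (by omega)
  rw [← hsplit]
  exact hx _ _ h1 hlo.1 h2 hlo.2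

theorem low_check : ((List.range 16).all fun a => (List.range 16).all fun b =>
    !(low a && low b) || low (Nat.xor a b)) = true := by decide +kernel

/-- A code with equal first coordinates is orthogonal to the line of the pair. -/
theorem low_iff (n : ℕ) : low n = true ↔ btC n 5 = false ∧ btC n 10 = false := by
  have key : ∀ m : Fin 16, low m.val = true ↔ btC m.val 5 = false ∧ btC m.val 10 = false := by decide +kernel
  have h := key ⟨n % 16, Nat.mod_lt _ (by norm_num)⟩
  have hb : ∀ i, i < 4 → (n % 16).testBit i = n.testBit i := fun i hi => by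
    rw [show (16 : ℕ) = 2 ^ 4 from rfl, Nat.testBit_mod_two_pow]; simp [hi]
  simp only [btC] at h ⊢
  simp only [hb 0 (by norm_num), hb 1 (by norm_num), hb 2 (by norm_num), hb 3 (by norm_num)] at h
  simp only [low] at h ⊢
  rw [show n % 16 % 4 = n % 4 by omega, show n % 16 / 4 % 4 = n / 4 % 4 by omega] at h
  simpa [Nat.testBit_eq_decide_div_mod_eq] using h

theorem btC_swap (x y : ℕ) : btC x y = btC y x := by
  simp only [btC]
  generalize x.testBit 0 = a0, x.testBit 1 = a1, x.testBit 2 = a2, x.testBit 3 = a3, x.testBit 4 = a4,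
    x.testBit 5 = a5, x.testBit 6 = a6, x.testBit 7 = a7, x.testBit 8 = a8, x.testBit 9 = a9,
    x.testBit 10 = a10, x.testBit 11 = a11, y.testBit 0 = c0, y.testBit 1 = c1, y.testBit 2 = c2,
    y.testBit 3 = c3, y.testBit 4 = c4, y.testBit 5 = c5, y.testBit 6 = c6, y.testBit 7 = c7,
    y.testBit 8 = c8, y.testBit 9 = c9, y.testBit 10 = c10, y.testBit 11 = c11
  simp only [Bool.and_comm, Bool.xor_comm, Bool.xor_left_comm, Bool.xor_assoc]

theorem btC_xor (x y t : ℕ) : btC (Nat.xor x y) t = (btC x t ^^ btC y t) := by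
  have h : Four.btV (vecOf (Nat.xor x y)) (vecOf t) = Four.btV (vecOf x) (vecOf t) + Four.btV (vecOf y) (vecOf t) := by
    rw [vecOf_xor, Four.btV, Four.btV, Four.btV, ← Finset.sum_add_distrib]
    refine Finset.sum_congr rfl fun i _ => ?_
    exact (by decide : ∀ a b c : Four.K4, Four.bt (a + b) c = Four.bt a c + Four.bt b c) _ _ _
  rw [btV_vecOf, btV_vecOf, btV_vecOf, ← b2_xor] at h
  exact (by decide : ∀ p q : Bool, b2 p = b2 q → p = q) _ _ h

theorem btC_zero (x : ℕ) : btC 0 x = false := by simp [btC]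

theorem qC_xor (x y : ℕ) : qC (Nat.xor x y) = ((qC x ^^ qC y) ^^ btC x y) := by
  have h : ∑ i, Four.nz (vecOf (Nat.xor x y) i) =
      ∑ i, Four.nz (vecOf x i) + ∑ i, Four.nz (vecOf y i) + Four.btV (vecOf x) (vecOf y) := by
    rw [vecOf_xor, Four.btV, ← Finset.sum_add_distrib, ← Finset.sum_add_distrib]
    refine Finset.sum_congr rfl fun i _ => ?_
    exact (by decide : ∀ a b : Four.K4, Four.nz (a + b) = Four.nz a + Four.nz b + Four.bt a b) _ _
  rw [btV_vecOf, qV_vecOf, qV_vecOf, qV_vecOf, ← b2_xor, ← b2_xor] at h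
  exact (by decide : ∀ p q : Bool, b2 p = b2 q → p = q) _ _ h

theorem forms_check : (lowGen.all fun a => (UCent.qW (wN a) == qC a) &&
    lowGen.all fun b => UCent.bt (wN a) (wN b) == btC a b) = true := by decide +kernel

theorem bt_wN {x y : ℕ} (hx : x < 4096) (hy : y < 4096) (lx : low x = true) (ly : low y = true) :
    UCent.bt (wN x) (wN y) = btC x y := by
  refine low_induction (P := fun x => UCent.bt (wN x) (wN y) = btC x y) ?_ (fun a ha => ?_)
    (fun a b ha hb h1 h2 => ?_) hx lx
  · rw [show wN 0 = 0 from rfl, UCent.bt_zero, btC_zero]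
  · refine low_induction (P := fun y => UCent.bt (wN a) (wN y) = btC a y) ?_ (fun b hb => ?_)
      (fun b c hb hc h1 h2 => ?_) hy ly
    · rw [show wN 0 = 0 from rfl, UCent.bt_zero', btC_swap, btC_zero]
    · have := List.all_eq_true.1 forms_check a ha
      simp only [Bool.and_eq_true, beq_iff_eq] at this
      have h := List.all_eq_true.1 this.2 b hb
      exact beq_iff_eq.1 h
    · rw [wN_xor hb hc, UCent.bt_add', h1, h2, btC_swap a (Nat.xor b c), btC_xor, btC_swap b, btC_swap c]
  · rw [wN_xor ha hb, UCent.bt_add, h1, h2, btC_xor]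

theorem qW_wN {x : ℕ} (hx : x < 4096) (lx : low x = true) : UCent.qW (wN x) = qC x := by
  have key : ∀ x, x < 4096 → low x = true → low x = true ∧ UCent.qW (wN x) = qC x := by
    intro x hx lx
    refine low_induction (P := fun x => low x = true ∧ UCent.qW (wN x) = qC x) ⟨rfl, ?_⟩ (fun a ha => ?_)
      (fun a b ha hb h1 h2 => ?_) hx lx
    · decide +kernel
    · have h := List.all_eq_true.1 forms_check a ha
      simp only [Bool.and_eq_true, beq_iff_eq] at h
      have h' := List.all_eq_true.1 low_gen a ha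
      simp only [Bool.and_eq_true] at h'
      exact ⟨h'.2, h.1⟩
    · refine ⟨?_, by rw [wN_xor ha hb, UCent.qW_add, qC_xor, h1.2, h2.2, bt_wN ha hb h1.1 h2.1]⟩
      rw [low_iff, btC_xor, btC_xor, ((low_iff a).1 h1.1).1, ((low_iff a).1 h1.1).2, ((low_iff b).1 h2.1).1,
        ((low_iff b).1 h2.1).2]
      exact ⟨rfl, rfl⟩
  exact (key x hx lx).2

theorem om_check : ((List.range 12).all fun j => wN (omC (2 ^ j)) == UCent.om (wN (2 ^ j))) = true := by
  decide +kernel

theorem om_wN {n : ℕ} (hn : n < 4096) : wN (omC n) = UCent.om (wN n) := by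
  refine (xor_induction (P := fun n => n < 4096 ∧ wN (omC n) = UCent.om (wN n)) (k := 12) ⟨by norm_num, rfl⟩
    (fun j hj => ⟨?_, ?_⟩) (fun a b ha hb => ⟨xor_lt' (k := 12) ha.1 hb.1, ?_⟩) n hn).2
  · exact Nat.pow_lt_pow_right (by norm_num) hj
  · exact beq_iff_eq.1 (List.all_eq_true.1 om_check j (List.mem_range.2 hj))
  · rw [show omC (Nat.xor a b) = Nat.xor (omC a) (omC b) from linC_xor _ a b, wN_xor (omC_lt a) (omC_lt b),
      wN_xor ha.1 hb.1, UCent.om_add, ha.2, hb.2]

/-- A code vanishing on the last four coordinates lies on the line of the pair. -/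
theorem wN_zero {n : ℕ} (hn : n < 4096) (hl : low n = true) (h : wN n = 0) :
    n = 0 ∨ n = 5 ∨ n = 10 ∨ n = 15 := by
  have hd : n / 16 = 0 := by
    have := congrArg (fun w : UCent.W => w.code.val) h
    simp only [wN, UCent.W.mk'_code (by omega : n / 16 < 256)] at this
    exact this
  have := List.all_eq_true.1 low_small n (List.mem_range.2 (by omega))
  rw [hl] at this
  simpa using this

/-- A flat code of the four coordinates. -/
theorem flat_wN {n : ℕ} (hn : n < 4096) (hl : low n = true) :
    UCent.flat (wN n) = true ↔ IsFlat (vecOf n) := by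
  have bit : ∀ a i, a < 256 → (16 * a).testBit (i + 4) = a.testBit i := fun a i _ => by
    rw [show (16 : ℕ) = 2 ^ 4 from rfl, Nat.testBit_two_pow_mul]; simp
  have key : ∀ a : Fin 256, UCent.flat (UCent.W.mk' a.val) =
      ((((a.val.testBit 0 == a.val.testBit 2) && (a.val.testBit 1 == a.val.testBit 3)) &&
        (a.val.testBit 4 == a.val.testBit 6)) && (a.val.testBit 5 == a.val.testBit 7)) := by decide +kernel
  rw [wN, key ⟨n / 16, by omega⟩]
  have hb : ∀ i, (n / 16).testBit i = n.testBit (i + 4) := fun i => by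
    rw [show (16 : ℕ) = 2 ^ 4 from rfl, Nat.testBit_div_two_pow]
  simp only [hb]
  obtain ⟨l1, l2⟩ := (low_iff n).1 hl
  have e5 : btC n 5 = (n.testBit 1 ^^ n.testBit 3) := by simp [btC, show Nat.testBit 5 0 = true from rfl,
    show Nat.testBit 5 1 = false from rfl, show Nat.testBit 5 2 = true from rfl, show Nat.testBit 5 3 = false from rfl,
    show ∀ i, Nat.testBit 5 (i + 4) = false from fun i => Nat.testBit_eq_false_of_lt (lt_of_lt_of_le (by norm_num)
      (Nat.pow_le_pow_right (by norm_num) (show 3 ≤ i + 4 by omega)))]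
  have e10 : btC n 10 = (n.testBit 0 ^^ n.testBit 2) := by simp [btC, show Nat.testBit 10 0 = false from rfl,
    show Nat.testBit 10 1 = true from rfl, show Nat.testBit 10 2 = false from rfl, show Nat.testBit 10 3 = true from rfl,
    show ∀ i, Nat.testBit 10 (i + 4) = false from fun i => Nat.testBit_eq_false_of_lt (lt_of_lt_of_le (by norm_num)
      (Nat.pow_le_pow_right (by norm_num) (show 4 ≤ i + 4 by omega)))]
  rw [e5] at l1
  rw [e10] at l2
  have hp : ∀ p q r s : Bool, (b2 p, b2 q) = (b2 r, b2 s) ↔ p = r ∧ q = s := by decide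
  simp only [Bool.and_eq_true, beq_iff_eq, IsFlat, vecOf, Fin.val_zero, Fin.val_one, Fin.val_two,
    show ((3 : Fin 6) : ℕ) = 3 from rfl, show ((4 : Fin 6) : ℕ) = 4 from rfl, show ((5 : Fin 6) : ℕ) = 5 from rfl,
    hp, Nat.mul_zero, Nat.zero_add, Nat.reduceMul, Nat.reduceAdd]
  revert l1 l2
  cases n.testBit 0 <;> cases n.testBit 1 <;> cases n.testBit 2 <;> cases n.testBit 3 <;> simp <;> tauto

/-- The map of `A` on the four coordinates. -/
def actW (b : Bool) (n : ℕ) (w : UCent.W) : UCent.W := wN (RC b n (w.code.val * 16))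

theorem act_check : ∀ b, ((List.range 16).all fun n => lowGen.all fun g =>
    low (RC b n g) && (wN (RC b n g) == actW b n (wN g))) = true := by decide +kernel

theorem actW_add {b : Bool} {n : ℕ} (hn : n < 16) (x y : UCent.W) :
    actW b n (x + y) = actW b n x + actW b n y := by
  rw [actW, UCent.W.add_code, show (x.code.val ^^^ y.code.val) * 16 = Nat.xor (x.code.val * 16) (y.code.val * 16) by
    simp only [nxor, show (16 : ℕ) = 2 ^ 4 from rfl, ← Nat.shiftLeft_eq, Nat.shiftLeft_xor_distrib],
    show RC b n (Nat.xor (x.code.val * 16) (y.code.val * 16)) = Nat.xor (RC b n (x.code.val * 16)) (RC b n (y.code.val * 16))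
      from linC_xor _ _ _, wN_xor (RC_lt hn _) (RC_lt hn _)]
  rfl

theorem RC_wN {b : Bool} {n : ℕ} (hn : n < 16) {y : ℕ} (hy : y < 4096) (hl : low y = true) :
    low (RC b n y) = true ∧ wN (RC b n y) = actW b n (wN y) := by
  refine low_induction (P := fun y => low (RC b n y) = true ∧ wN (RC b n y) = actW b n (wN y)) ?_
    (fun g hg => ?_) (fun a c ha hc h1 h2 => ?_) hy hl
  · simp [RC, linC_zero, actW, show low 0 = true from rfl, show wN 0 = 0 from rfl,
      show (0 : UCent.W).code.val = 0 from rfl]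
  · have := List.all_eq_true.1 (List.all_eq_true.1 (act_check b) n (List.mem_range.2 hn)) g hg
    simpa only [Bool.and_eq_true, beq_iff_eq] using this
  · have e : RC b n (Nat.xor a c) = Nat.xor (RC b n a) (RC b n c) := linC_xor _ a c
    rw [e, wN_xor (RC_lt hn _) (RC_lt hn _), h1.2, h2.2, wN_xor ha hc, actW_add hn]
    refine ⟨?_, rfl⟩
    rw [low_iff, btC_xor, btC_xor, ((low_iff _).1 h1.1).1, ((low_iff _).1 h1.1).2, ((low_iff _).1 h2.1).1,
      ((low_iff _).1 h2.1).2]
    exact ⟨rfl, rfl⟩

/-- Only the identity is trivial on the four coordinates. -/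
theorem actW_triv : ∀ b, ((List.range 16).all fun n => Nat.beq n 0 ||
    (List.range 8).any fun j => !(actW b n (UCent.W.mk' (2 ^ j)) == UCent.W.mk' (2 ^ j))) = true := by
  decide +kernel

/-- The basis of the flat vectors as sums of displacements. -/
def spanW (b : Bool) : List (List (ℕ × ℕ)) := if b then
  [[(1, 32), (2, 16), (2, 256)], [(1, 16), (1, 32), (2, 32), (2, 512)], [(1, 32), (2, 16), (2, 256), (2, 512)],
    [(1, 16), (1, 32), (2, 32), (2, 256)], [(2, 16), (2, 512)], [(2, 32), (2, 256), (2, 512)]] else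
  [[(1, 16), (1, 32), (2, 16), (2, 256)], [(1, 16), (2, 32), (2, 512)], [(1, 16), (1, 32), (2, 16), (2, 512)],
    [(1, 16), (2, 32), (2, 256), (2, 512)], [(2, 16), (2, 256), (2, 512)], [(2, 32), (2, 256)]]

theorem span_check : ∀ b, ((List.range 6).all fun j =>
    Nat.beq (((spanW b).getD j []).foldr (fun p acc => Nat.xor (Nat.xor (RC b p.1 p.2) p.2) acc) 0) (bwC b (2 ^ j)) &&
      ((spanW b).getD j []).all fun p => Nat.ble (p.1 + 1) 16 && Nat.ble (p.2 + 1) 4096 && low p.2) = true := by
  decide +kernel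

/-- The type of a code in the coset of a map, up to a sign. -/
def ty (b : Bool) (n c : ℕ) : Bool := (!(Nat.beq n 0 && Nat.beq c 0)) && !memL c ((pn b).getD n 0)

/-- All three translates leave the class. -/
def mem3 (b : Bool) (n c : ℕ) : Bool :=
  ty b n c && !ty b n (Nat.xor c 1) && !ty b n (Nat.xor c 2) && !ty b n (Nat.xor c 3)

/-- The maps acting as transvections of flat vectors, with the vectors. -/
def tvN (b : Bool) : List (ℕ × ℕ) := if b then [(1, 85), (4, 5), (7, 90), (8, 80), (10, 95)]
  else [(1, 85), (4, 5), (7, 95), (8, 80), (10, 90)]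

theorem mem3_check : ∀ b, ((List.range 16).all fun n => (List.range 128).all fun c => !mem3 b n c ||
    (((Nat.beq n 0 && Nat.beq c 64) || (tvN b).any fun p => Nat.beq p.1 n) &&
      (List.range 4).all fun e => !mem3 b n (Nat.xor (Nat.xor c 64) e))) = true := by decide +kernel

theorem tvN_check : ∀ b, ((tvN b).all fun p => Nat.ble 1 p.1 && Nat.ble (p.1 + 1) 16 &&
    UCent.flat (UCent.W.mk' p.2) && !(UCent.W.mk' p.2 == 0) && mem3 b p.1 3 &&
    (List.range 8).all fun j => actW b p.1 (UCent.W.mk' (2 ^ j)) == UCent.tv (UCent.W.mk' p.2) (UCent.W.mk' (2 ^ j))) = true := by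
  decide +kernel

theorem tvN_cover : ∀ b, (UCent.flatList.all fun p => p == 0 ||
    (tvN b).any fun r => UCent.onLine (UCent.W.mk' r.2) p) = true := by decide +kernel

/-- Pairs spanning the totally isotropic planes. -/
def planes : List (ℕ × ℕ) :=
  [(5, 80), (5, 101), (5, 117), (9, 80), (9, 105), (9, 121), (13, 80), (13, 109), (13, 125), (17, 68), (17, 89),
    (17, 93), (20, 65), (20, 129), (20, 193), (33, 68), (33, 105), (33, 109), (36, 65), (36, 129), (36, 193),
    (49, 68), (49, 121), (49, 125), (52, 65), (52, 129), (52, 193)]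

theorem planes_check : (planes.all fun i => UCent.iso (UCent.W.mk' i.1) && UCent.iso (UCent.W.mk' i.2) &&
    UCent.perp (UCent.W.mk' i.2) (UCent.W.mk' i.1) && !UCent.onLine (UCent.W.mk' i.1) (UCent.W.mk' i.2)) = true := by
  decide +kernel

theorem planes_cover : (UCent.ptList.all fun p => UCent.ptList.all fun r =>
    !(UCent.perp r p) || UCent.onLine p r || planes.any fun i =>
      UCent.perp p (UCent.W.mk' i.1) && UCent.perp p (UCent.W.mk' i.2) &&
        UCent.perp r (UCent.W.mk' i.1) && UCent.perp r (UCent.W.mk' i.2)) = true := by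
  decide +kernel

end CfsgLib.FischerTwoFour.FourCert
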