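import Cfsg.Agent.Lib.FischerTwoFour.FourCert.Cent

/-!
The order of the part of `C(z)` centralising the four-group, the elements carrying one member of the
class to another, and the transitivity on the totally isotropic planes by counting.
-/

set_option autoImplicit false
set_option linter.unusedSectionVars false
set_option maxRecDepth 100000

namespace CfsgLib.FischerTwoFour.FourCert

open Subgroup
open CfsgLib.FischerTwoFour.Cocode
open CfsgLib.ThreeTrans

variable {G : Type*} [Group G] [Finite G] {z : G} {Y : CfsgLib.FischerTwoFour.Sys z} (D : AData Y)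

/-- The part of `C(z)` centralising the first involution. -/
abbrev C1 : Subgroup G := Subgroup.centralizer ({z} : Set G) ⊓ Subgroup.centralizer ({D.phi 1} : Set G)

/-- Conjugates of `z` all whose translates by the four-group leave the class. -/
def Member (y : G) : Prop :=
  y ∈ D.A ∧ IsConj z y ∧ ∀ k, k ∈ [1, 2, 3] → ¬ IsConj z (y * D.phi k)

theorem member_z : Member D z := by
  refine ⟨D.z_mem_A, IsConj.refl z, fun k hk h => ?_⟩
  have hzk : z * D.phi k = D.phi (Nat.xor k 64) := by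
    rw [← D.phi_flip, Y.zcomm (Y.le_cen (D.phi_mem k).2) (Or.inr rfl)]
  rw [hzk] at h
  refine (nc_code D ?_).2.2 h
  rcases List.mem_cons.1 hk with rfl | hk
  · decide +kernel
  rcases List.mem_cons.1 hk with rfl | hk
  · decide +kernel
  rcases List.mem_cons.1 hk with rfl | hk
  · decide +kernel
  · exact absurd hk (List.not_mem_nil)

theorem phi_three : D.phi 1 * D.phi 2 = D.phi 3 := D.phi_mul 1 2

theorem four_points (P : Labels D) : ∃ a b c, a ≠ b ∧ a ≠ c ∧ b ≠ c ∧ P.p a b = D.phi 1 ∧ P.p a c = D.phi 2 ∧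
    P.p b c = D.phi 3 := by
  obtain ⟨a, b, c, h1, h2, h3, e1, e2, e3⟩ := P.triangle (nc_code D (c := 1) (by simp))
    (nc_code D (c := 2) (by simp)) (by rw [phi_three D]; exact nc_code D (by simp))
  exact ⟨a, b, c, h1, h2, h3, e1, e2, e3.trans (phi_three D)⟩

/-- The elements of the class all whose translates leave the class are conjugate under the four-group's centraliser. -/
theorem member_move (P : Labels D) {y : G} (hy : Member D y) : ∃ m ∈ LL D, m * z * m⁻¹ = y := by
  obtain ⟨a, b, c, hab, hac, hbc, e1, e2, e3⟩ := four_points D P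
  have form : ∀ {w}, Member D w → ∃ x, x ≠ a ∧ x ≠ b ∧ x ≠ c ∧ w = P.p a b * P.p x c := fun {w} hw =>
    P.member_form hab hac hbc (by rw [e1, e2, e3, phi_three D]) hw.1 hw.2.1
      (e1 ▸ hw.2.2 1 (by simp)) (e2 ▸ hw.2.2 2 (by simp)) (e3 ▸ hw.2.2 3 (by simp))
  obtain ⟨x0, h1, h2, h3, ez⟩ := form (member_z D)
  obtain ⟨x, k1, k2, k3, ey⟩ := form hy
  obtain ⟨g, hg, hgL⟩ := CfsgLib.Golay.exists_map_eq (L := [a, b, c, x0]) (L' := [a, b, c, x])
    (by simp [hab, hac, hbc, Ne.symm h1, Ne.symm h2, Ne.symm h3])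
    (by simp [hab, hac, hbc, Ne.symm k1, Ne.symm k2, Ne.symm k3]) rfl (by simp)
  simp only [List.map_cons, List.map_nil, List.cons.injEq, and_true] at hgL
  obtain ⟨ga, gb, gc, gx⟩ := hgL
  obtain ⟨m, -, hm⟩ := P.lift g hg
  refine ⟨m, (mem_LL D).2 ⟨mul_inv_eq_iff_eq_mul.1 ?_, mul_inv_eq_iff_eq_mul.1 ?_⟩, ?_⟩
  · rw [← e1, hm, ga, gb]
  · rw [← e2, hm, ga, gc]
  · rw [ez, show m * (P.p a b * P.p x0 c) * m⁻¹ = m * P.p a b * m⁻¹ * (m * P.p x0 c * m⁻¹) by group, hm, hm,
      ga, gb, gc, gx, ← ey]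

/-- An element of the normaliser exchanging two of the involutions. -/
theorem exists_swap (P : Labels D) : ∃ m ∈ normalizer (D.A : Set G) ⊓ C1 D, m * D.phi 2 * m⁻¹ = D.phi 3 := by
  obtain ⟨a, b, c, hab, hac, hbc, e1, e2, e3⟩ := four_points D P
  obtain ⟨x0, h1, h2, h3, ez⟩ := P.member_form hab hac hbc (by rw [e1, e2, e3, phi_three D])
    (member_z D).1 (member_z D).2.1
    (e1 ▸ (member_z D).2.2 1 (by simp)) (e2 ▸ (member_z D).2.2 2 (by simp)) (e3 ▸ (member_z D).2.2 3 (by simp))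
  obtain ⟨g, hg, hgL⟩ := CfsgLib.Golay.exists_map_eq (L := [a, b, c, x0]) (L' := [b, a, c, x0])
    (by simp [hab, hac, hbc, Ne.symm h1, Ne.symm h2, Ne.symm h3])
    (by simp [Ne.symm hab, hac, hbc, Ne.symm h1, Ne.symm h2, Ne.symm h3]) rfl (by simp)
  simp only [List.map_cons, List.map_nil, List.cons.injEq, and_true] at hgL
  obtain ⟨ga, gb, gc, gx⟩ := hgL
  obtain ⟨m, hmN, hm⟩ := P.lift g hg
  refine ⟨m, Subgroup.mem_inf.2 ⟨hmN, Subgroup.mem_inf.2 ⟨?_, ?_⟩⟩, by rw [← e2, hm, ga, gc, e3]⟩ <;>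
    refine mem_centralizer_singleton_iff.2 (mul_inv_eq_iff_eq_mul.1 ?_)
  · rw [ez, show m * (P.p a b * P.p x0 c) * m⁻¹ = m * P.p a b * m⁻¹ * (m * P.p x0 c * m⁻¹) by group, hm, hm,
      ga, gb, gc, gx, P.sym b a]
  · rw [← e1, hm, ga, gb, P.sym b a]

theorem exists_flip : ∃ q ∈ normalizer (D.A : Set G) ⊓ C1 D, q * D.phi 2 * q⁻¹ = D.phi 66 ∧
    q * D.phi 3 * q⁻¹ = D.phi 67 := by
  obtain ⟨q, hq, hco⟩ := D.co_surj (vecOf 1)
  have hc : ∀ k, k < 64 → q * D.phi k * q⁻¹ * (D.phi k)⁻¹ = zb z (btC 1 (bwC D.b k)) := fun k hk =>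
    D.comm_bit hq (D.phi_mem k).2 hco (by rw [D.co_phi, Nat.mod_eq_of_lt hk])
  have h1 : q * D.phi 1 * q⁻¹ = D.phi 1 := by
    have := hc 1 (by norm_num)
    rw [(bw_small D.b).1, show btC 1 5 = false by decide +kernel] at this
    exact mul_inv_eq_one.1 this
  have h2 : q * D.phi 2 * q⁻¹ = D.phi 66 := by
    have := hc 2 (by norm_num)
    rw [(bw_small D.b).2.1, show btC 1 10 = true by decide +kernel] at this
    rw [eq_mul_of_mul_inv_eq this, show zb z true * D.phi 2 = D.phi 2 * z from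
      (Y.zcomm (Y.le_cen (D.phi_mem 2).2) (Or.inr rfl)).symm, D.phi_flip]
    rfl
  refine ⟨q, Subgroup.mem_inf.2 ⟨D.mem_normalizer_A fun a ha => D.Qg_norm hq ha,
    Subgroup.mem_inf.2 ⟨Y.le_cen hq, mem_centralizer_singleton_iff.2 (mul_inv_eq_iff_eq_mul.1 h1)⟩⟩, h2, ?_⟩
  rw [← phi_three D, show q * (D.phi 1 * D.phi 2) * q⁻¹ = q * D.phi 1 * q⁻¹ * (q * D.phi 2 * q⁻¹) by group,
    h1, h2, D.phi_mul]
  rfl

theorem four_orbit_ge (P : Labels D) (H : Subgroup G) (hH : normalizer (D.A : Set G) ⊓ C1 D ≤ H) :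
    4 ≤ {y : G | ∃ h ∈ H, h * D.phi 2 * h⁻¹ = y}.ncard := by
  classical
  obtain ⟨q, hq, q2, q3⟩ := exists_flip D
  obtain ⟨m, hm, m2⟩ := exists_swap D P
  have hsub : ↑((([2, 66, 3, 67] : List ℕ).map D.phi).toFinset) ⊆ {y : G | ∃ h ∈ H, h * D.phi 2 * h⁻¹ = y} := by
    intro y hy
    rw [List.coe_toFinset] at hy
    simp only [Set.mem_ofPred_eq, List.mem_map, List.mem_cons, List.not_mem_nil, or_false] at hy
    obtain ⟨k, hk, rfl⟩ := hy
    rcases hk with rfl | rfl | rfl | rfl
    · exact ⟨1, one_mem _, by simp⟩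
    · exact ⟨q, hH hq, q2⟩
    · exact ⟨m, hH hm, m2⟩
    · refine ⟨q * m, hH (mul_mem hq hm), ?_⟩
      rw [show q * m * D.phi 2 * (q * m)⁻¹ = q * (m * D.phi 2 * m⁻¹) * q⁻¹ by group, m2, q3]
  refine le_trans ?_ (Set.ncard_le_ncard hsub (Set.toFinite _))
  rw [Set.ncard_coe_finset, List.toFinset_card_of_nodup]
  · simp
  refine List.Nodup.map_on (fun a ha b hb e => D.phi_inj ?_ ?_ e) (by decide)
  · simp only [List.mem_cons, List.not_mem_nil, or_false] at ha; omega
  · simp only [List.mem_cons, List.not_mem_nil, or_false] at hb; omega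

theorem four_orbit_le
    (hout : ∀ c ∈ Subgroup.centralizer ({z} : Set G), c ∉ Y.M → ∀ q ∈ Y.Qg,
      D.co (c * Y.sh q * c⁻¹) = Four.omV (Four.omV (D.co (c * q * c⁻¹)))) :
    {y : G | ∃ h ∈ C1 D, h * D.phi 2 * h⁻¹ = y}.ncard ≤ 4 := by
  classical
  have hsub : {y : G | ∃ h ∈ C1 D, h * D.phi 2 * h⁻¹ = y} ⊆
      ↑((([2, 66, 3, 67] : List ℕ).map D.phi).toFinset) := by
    rintro y ⟨c, hc, rfl⟩
    obtain ⟨hcz, hc1⟩ := Subgroup.mem_inf.1 hc
    have h1 : c * D.phi 1 * c⁻¹ = D.phi 1 := mul_inv_eq_iff_eq_mul.2 (mem_centralizer_singleton_iff.1 hc1)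
    obtain ⟨e, he, hsh⟩ := D.co_eq (D.phi_mem 2).2 (Y.sh_mem (D.phi_mem 1).2)
      (by rw [D.co_sh _ (D.phi_mem 1).2, co_phi_two D hout])
    have hyQ : c * D.phi 2 * c⁻¹ ∈ Y.Qg := Y.normQ c hcz _ (D.phi_mem 2).2
    have e2 : D.co (c * D.phi 2 * c⁻¹) = D.co (c * Y.sh (D.phi 1) * c⁻¹) := by
      rw [hsh, show c * (e * Y.sh (D.phi 1)) * c⁻¹ = c * e * c⁻¹ * (c * Y.sh (D.phi 1) * c⁻¹) by group,
        Y.zcomm hcz he, mul_inv_cancel_right,
        D.co_mul e (Y.inZ_mem he) _ (Y.normQ c hcz _ (Y.sh_mem (D.phi_mem 1).2)), D.co_inZ he, zero_add]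
    obtain ⟨k, hk, hco⟩ : ∃ k, (k = 2 ∨ k = 3) ∧ D.co (c * D.phi 2 * c⁻¹) = D.co (D.phi k) := by
      by_cases hM : c ∈ Y.M
      · exact ⟨2, Or.inl rfl, by rw [e2, lin_M D hM (D.phi_mem 1).2, h1, co_phi_two D hout]⟩
      · refine ⟨3, Or.inr rfl, ?_⟩
        rw [e2, hout c hcz hM _ (D.phi_mem 1).2, h1, D.co_phi, D.co_phi, show (1 : ℕ) % 64 = 1 from rfl,
          show (3 : ℕ) % 64 = 3 from rfl, (bw_small D.b).1, omV_vecOf (by norm_num : (5 : ℕ) < 4096),
          omV_vecOf (omC_lt _)]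
        exact congrArg vecOf (by revert hM; cases D.b <;> intro _ <;> decide +kernel)
    obtain ⟨e', he', hy⟩ := D.co_eq hyQ (D.phi_mem k).2 hco
    rw [List.coe_toFinset]
    simp only [Set.mem_ofPred_eq, List.mem_map, List.mem_cons, List.not_mem_nil, or_false]
    rcases he' with rfl | rfl
    · rw [one_mul] at hy
      exact ⟨k, hk.imp id (fun h => Or.inr (Or.inl h)) |>.elim Or.inl Or.inr, hy.symm⟩
    · rw [← Y.zcomm (Y.le_cen (D.phi_mem k).2) (Or.inr rfl), D.phi_flip] at hy
      refine ⟨Nat.xor k 64, ?_, hy.symm⟩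
      rcases hk with rfl | rfl
      · exact Or.inr (Or.inl rfl)
      · exact Or.inr (Or.inr (Or.inr rfl))
  refine (Set.ncard_le_ncard hsub (Set.toFinite _)).trans ?_
  rw [Set.ncard_coe_finset]
  exact (List.toFinset_card_le _).trans (by simp)

theorem Cz_eq : Cz D = C1 D ⊓ Subgroup.centralizer ({D.phi 2} : Set G) := by
  ext g
  constructor
  · intro h
    exact ⟨⟨h.2, mem_centralizer_singleton_iff.2 ((mem_LL D).1 h.1).1⟩, mem_centralizer_singleton_iff.2 ((mem_LL D).1 h.1).2⟩
  · intro h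
    exact ⟨(mem_LL D).2 ⟨mem_centralizer_singleton_iff.1 h.1.2, mem_centralizer_singleton_iff.1 h.2⟩, h.1.1⟩

theorem card_C1 {Q : Subgroup (Subgroup.centralizer ({z} : Set G))} [Q.Normal]
    (hF : Cfsg.IsOfLargeFischerTypeAt z Q) (hQ : Y.Qg = Q.map (Subgroup.centralizer ({z} : Set G)).subtype) :
    Nat.card (C1 D) = 51840 * 4096 := by
  classical
  have S := shape_of hF
  have hz : orderOf z = 2 := hF.1.1
  have hu := nc_code D (c := 1) (by simp)
  have huQ : D.phi 1 ∈ Q.map (Subgroup.centralizer ({z} : Set G)).subtype := hQ ▸ (D.phi_mem 1).2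
  obtain ⟨a, ha⟩ := mem_map_iff.1 huQ
  have ha2 : a * a = 1 := toG_inj (by rw [map_mul, ha, map_one]; exact D.A_sq _ hu.1)
  have han : a ∉ Subgroup.center Q := not_center S hz (show toG a ≠ 1 by rw [ha]; exact hu.2.1)
    (fun e => hu.2.2 (by rw [← ha, show toG a = z from e]))
  have hst : Nat.card (stabImage a) = 51840 := by
    refine ((S.stab_cases ha2 han).1).resolve_right fun h => hu.2.2 ?_
    rw [← ha, conj_iff_card S hF ha2 han, ← S.stabImage_eq han]
    exact h
  set Cs : Subgroup (Subgroup.centralizer ({z} : Set G)) := Subgroup.centralizer ({((a : Subgroup.centralizer ({z} : Set G)))} : Set (Subgroup.centralizer ({z} : Set G))) with hCs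
  have hmap : Cs.map (Subgroup.centralizer ({z} : Set G)).subtype = C1 D := by
    ext g
    constructor
    · rintro ⟨c, hc, rfl⟩
      refine Subgroup.mem_inf.2 ⟨c.2, mem_centralizer_singleton_iff.2 ?_⟩
      have := congrArg Subtype.val (mem_centralizer_singleton_iff.1 hc)
      rw [← ha]
      exact this
    · intro hg
      obtain ⟨h1, h2⟩ := Subgroup.mem_inf.1 hg
      refine ⟨⟨g, h1⟩, mem_centralizer_singleton_iff.2 (Subtype.ext ?_), rfl⟩
      have := mem_centralizer_singleton_iff.1 h2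
      rw [← ha] at this
      exact this
  have hQs : Nat.card (Cs.subgroupOf Q) = 4096 := by
    rw [← Y.card_cent (D.phi 1) (D.phi_mem 1).2 hu.2.1 (fun e => hu.2.2 (by rw [e]))]
    refine Nat.card_congr
      { toFun := fun x => ⟨toG (x : Q), Subgroup.mem_inf.2 ⟨hQ ▸ mem_map_iff.2 ⟨_, rfl⟩,
          mem_centralizer_singleton_iff.2 (by
            have := congrArg Subtype.val (mem_centralizer_singleton_iff.1 (mem_subgroupOf.1 x.2))
            rw [← ha]
            exact this)⟩⟩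
        invFun := fun x => ⟨⟨⟨x.1, Y.le_cen x.2.1⟩, by
            have h : (x : G) ∈ Q.map (Subgroup.centralizer ({z} : Set G)).subtype := hQ ▸ x.2.1
            obtain ⟨c, hc, e⟩ := h
            rwa [show (⟨x.1, Y.le_cen x.2.1⟩ : Subgroup.centralizer ({z} : Set G)) = c from Subtype.ext e.symm]⟩,
          mem_subgroupOf.2 (mem_centralizer_singleton_iff.2 (Subtype.ext (by
            exact (congrArg (fun t => (x : G) * t = t * (x : G)) ha).mpr
              (mem_centralizer_singleton_iff.1 x.2.2))))⟩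
        left_inv := fun x => Subtype.ext (Subtype.ext (Subtype.ext rfl))
        right_inv := fun x => Subtype.ext rfl }
  rw [← hmap, card_map_of_injective (Subgroup.centralizer ({z} : Set G)).subtype_injective, Geo.card_split (Q := Q) Cs, hQs]
  exact congrArg (· * 4096) hst

section

variable {Q : Subgroup (Subgroup.centralizer ({z} : Set G))} [Q.Normal]
  (hF : Cfsg.IsOfLargeFischerTypeAt z Q) (hQ : Y.Qg = Q.map (Subgroup.centralizer ({z} : Set G)).subtype)
  (hpt : HasPts Y)
  (hout : ∀ c ∈ Subgroup.centralizer ({z} : Set G), c ∉ Y.M → ∀ q ∈ Y.Qg,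
    D.co (c * Y.sh q * c⁻¹) = Four.omV (Four.omV (D.co (c * q * c⁻¹))))

include hF hQ hpt hout

theorem card_Cz : Nat.card (Cz D) = 51840 * 1024 := by
  obtain ⟨P⟩ := exists_labels D hF hQ hpt
  have h := card_orbit_mul (C1 D) (D.phi 2)
  rw [le_antisymm (four_orbit_le D hout) (four_orbit_ge D P (C1 D) inf_le_right), ← Cz_eq, card_C1 D hF hQ] at h
  omega

theorem card_norm_Cz : Nat.card ↥(normalizer (D.A : Set G) ⊓ Cz D) ≤ 2048 * 960 := by
  classical
  obtain ⟨P⟩ := exists_labels D hF hQ hpt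
  obtain ⟨p, -, -, -, -, -, -, -, h276, -, htetB, h36⟩ := D.exists_pairs hpt
  obtain ⟨-, hcard⟩ := D.mathieuLocal hF hQ hpt
  set N := normalizer (D.A : Set G)
  set Nz := N ⊓ Subgroup.centralizer ({z} : Set G)
  -- the orbit of `z`
  have h1 : 1771 ≤ {y : G | ∃ h ∈ N, h * z * h⁻¹ = y}.ncard := by
    have hsub : {a : G | a ∈ D.A ∧ a ≠ 1} \ D.NcG ⊆ {y : G | ∃ h ∈ N, h * z * h⁻¹ = y} := by
      rintro y ⟨⟨hy, hy1⟩, hyn⟩
      exact D.exists_norm_z hy ((D.eq_or_conj hy hy1).resolve_left hyn)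
    refine le_trans ?_ (Set.ncard_le_ncard hsub (Set.toFinite _))
    have e : {a : G | a ∈ D.A ∧ a ≠ 1} = (D.A : Set G) \ {1} := by ext a; simp
    rw [Set.ncard_sdiff (show D.NcG ⊆ {a | a ∈ D.A ∧ a ≠ 1} from fun a ha => ⟨ha.1, ha.2.1⟩) (Set.toFinite _),
      h276, e, Set.ncard_sdiff_singleton_of_mem (one_mem D.A), ← Nat.card_coe_set_eq]
    show 1771 ≤ Nat.card D.A - 1 - 276
    rw [D.A_card]
  have hNz : Nat.card Nz ≤ 2048 * 138240 := by
    have h := card_orbit_mul N z
    rw [hcard] at h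
    have := Nat.mul_le_mul_right (Nat.card Nz) h1
    rw [h] at this
    omega
  -- the orbit of the first involution
  set N1 := Nz ⊓ Subgroup.centralizer ({D.phi 1} : Set G)
  have h2 : 36 ≤ {y : G | ∃ h ∈ Nz, h * D.phi 1 * h⁻¹ = y}.ncard := by
    refine h36.trans (Set.ncard_le_ncard ?_ (Set.toFinite _))
    rintro u ⟨hu, hzu⟩
    exact D.trans_tet hF hQ hpt (nc_code D (by simp)) (D.phi_mem 1) hu (htetB u hu hzu)
  have hN1 : Nat.card N1 ≤ 2048 * 3840 := by
    have h := card_orbit_mul Nz (D.phi 1)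
    have := Nat.mul_le_mul_right (Nat.card N1) h2
    rw [h] at this
    omega
  have hN1' : N ⊓ C1 D = N1 := inf_assoc _ _ _ |>.symm
  have h3 := card_orbit_mul N1 (D.phi 2)
  have h4 := four_orbit_ge D P N1 (le_of_eq hN1')
  have e : N ⊓ Cz D = N1 ⊓ Subgroup.centralizer ({D.phi 2} : Set G) := by
    rw [Cz_eq, ← hN1', ← inf_assoc N (C1 D)]
  rw [e]
  have := Nat.mul_le_mul_right (Nat.card ↥(N1 ⊓ Subgroup.centralizer ({D.phi 2} : Set G))) h4
  omega

/-- The flat plane reaches the totally isotropic plane of any two orthogonal vectors. -/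
theorem exists_to_flat {p r : UCent.W} (hp : UCent.iso p = true) (hr : UCent.iso r = true)
    (hpr : UCent.perp r p = true) (hl : UCent.onLine p r = false) :
    ∃ g ∈ Cz D, UCent.flat (act D g p) = true ∧ UCent.flat (act D g r) = true := by
  classical
  set a0 := UCent.W.mk' 5
  set b0 := UCent.W.mk' 80
  have hab : UCent.flat a0 = true ∧ UCent.flat b0 = true ∧ a0 ≠ 0 ∧ UCent.onLine a0 b0 = false ∧
      UCent.iso a0 = true ∧ UCent.iso b0 = true ∧ UCent.perp b0 a0 = true := by decide +kernel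
  obtain ⟨fa, fb, a0ne, hab', ia, ib, pab⟩ := hab
  have span : ∀ w, UCent.flat w = true → ∃ x y, w = x + y ∧ UCent.onLine a0 x = true ∧ UCent.onLine b0 y = true := by
    have key : (UCent.flatList.all fun w => [0, a0, UCent.om a0, a0 + UCent.om a0].any fun x =>
        UCent.onLine b0 (w + x)) = true := by decide +kernel
    intro w hw
    obtain ⟨x, hx, hx'⟩ := List.any_eq_true.1 (List.all_eq_true.1 key w (UCent.mem_flatList hw))
    refine ⟨x, w + x, ?_, ?_, hx'⟩
    · rw [add_comm w x, UCent.W.add_cancel]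
    · simp only [List.mem_cons, List.not_mem_nil, or_false] at hx
      exact UCent.onLine_iff.2 hx
  have actLine : ∀ {c}, c ∈ Cz D → ∀ {x y}, UCent.onLine x y = true → UCent.onLine (act D c x) (act D c y) = true := by
    intro c hc x y h
    rcases UCent.onLine_iff.1 h with rfl | rfl | rfl | rfl
    · rw [act_zero D hc]; exact UCent.onLine_zero _
    · exact UCent.onLine_self _
    · rw [act_om D hout hc]; exact UCent.onLine_iff.2 (Or.inr (Or.inr (Or.inl rfl)))
    · rw [act_add D hc, act_om D hout hc]; exact UCent.onLine_iff.2 (Or.inr (Or.inr (Or.inr rfl)))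
  have actIso : ∀ {c}, c ∈ Cz D → ∀ {x}, UCent.iso x = true → UCent.iso (act D c x) = true := by
    intro c hc x hx
    obtain ⟨hq, hne⟩ := UCent.iso_iff.1 hx
    refine UCent.iso_iff.2 ⟨?_, fun e => hne (by rw [← act_inv D hc x, e, act_zero D (inv_mem hc)])⟩
    have hh := conj_QL D hc (sec_Qg D x) (sec_LL D x)
    show UCent.qW (wv D _) = false
    rw [← sq_iff D hh.1 hh.2]
    have := (sq_iff D (sec_Qg D x) (sec_LL D x)).2 (by rw [wv_sec]; exact hq)
    calc c * sec D x * c⁻¹ * (c * sec D x * c⁻¹) = c * (sec D x * sec D x) * c⁻¹ := by group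
      _ = 1 := by rw [this]; group
  have cover : ∀ {p r}, UCent.iso p = true → UCent.iso r = true → UCent.perp r p = true →
      UCent.onLine p r = false → ∃ i : Fin 27,
        UCent.perp p (UCent.W.mk' (planes.getD i.val (0, 0)).1) = true ∧
        UCent.perp p (UCent.W.mk' (planes.getD i.val (0, 0)).2) = true ∧
        UCent.perp r (UCent.W.mk' (planes.getD i.val (0, 0)).1) = true ∧
        UCent.perp r (UCent.W.mk' (planes.getD i.val (0, 0)).2) = true := by
    intro p r hp hr hpr hl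
    obtain ⟨p0, hp0, -⟩ := UCent.exists_pt hp
    obtain ⟨r0, hr0, -⟩ := UCent.exists_pt hr
    have hpne := (UCent.iso_iff.1 hp).2
    have hrne := (UCent.iso_iff.1 hr).2
    have e1 : UCent.onLine p p0.1 = true := UCent.onLine_symm hp0 hpne
    have e2 : UCent.onLine r r0.1 = true := UCent.onLine_symm hr0 hrne
    have hperp : UCent.perp r0.1 p0.1 = true := by
      have h1 : UCent.perp r p0.1 = true := UCent.perp_of_onLine hpr e1
      exact UCent.perp_symm (UCent.perp_of_onLine (UCent.perp_symm h1) e2)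
    have hne : UCent.onLine p0.1 r0.1 = false := Bool.eq_false_iff.2 fun h => by
      have h1 : UCent.onLine p r0.1 = true := UCent.onLine_trans hp0 h hpne
      have h2 : UCent.onLine p r = true := UCent.onLine_trans (UCent.onLine_symm h1 r0.ne_zero) hr0 hpne
      rw [hl] at h2
      exact Bool.noConfusion h2
    have hchk := List.all_eq_true.1 (List.all_eq_true.1 planes_cover p0.1 (List.mem_toFinset.1 p0.2)) r0.1
      (List.mem_toFinset.1 r0.2)
    rw [hperp, hne, Bool.not_true, Bool.false_or, Bool.false_or, List.any_eq_true] at hchk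
    obtain ⟨i, hi, hi'⟩ := hchk
    obtain ⟨k, hk, rfl⟩ := List.mem_iff_getElem.1 hi
    refine ⟨⟨k, hk⟩, ?_⟩
    rw [List.getD_eq_getElem _ _ hk]
    simp only [Bool.and_eq_true] at hi'
    obtain ⟨⟨⟨a1, a2⟩, a3⟩, a4⟩ := hi'
    have tr : ∀ {x x0 w}, UCent.onLine x0 x = true → UCent.perp x0 w = true → UCent.perp x w = true :=
      fun {x x0 w} hx h => UCent.perp_symm (UCent.perp_of_onLine (UCent.perp_symm h) hx)
    exact ⟨tr hp0 a1, tr hp0 a2, tr hr0 a3, tr hr0 a4⟩
  have idx : ∀ g : Cz D, ∃ i : Fin 27,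
      UCent.perp (act D g a0) (UCent.W.mk' (planes.getD i.val (0, 0)).1) = true ∧
        UCent.perp (act D g a0) (UCent.W.mk' (planes.getD i.val (0, 0)).2) = true ∧
        UCent.perp (act D g b0) (UCent.W.mk' (planes.getD i.val (0, 0)).1) = true ∧
        UCent.perp (act D g b0) (UCent.W.mk' (planes.getD i.val (0, 0)).2) = true := fun g =>
    cover (actIso g.2 ia) (actIso g.2 ib) (by rw [act_perp D hout g.2]; exact pab)
      (Bool.eq_false_iff.2 fun h => by
        have := actLine (inv_mem g.2) h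
        rw [act_inv D g.2, act_inv D g.2, hab'] at this
        exact Bool.noConfusion this)
  choose f hf using idx
  -- the generators of a plane pulled back are flat
  have pull : ∀ (g : Cz D), UCent.flat (act D (g : G)⁻¹ (UCent.W.mk' (planes.getD (f g).val (0, 0)).1)) = true ∧
      UCent.flat (act D (g : G)⁻¹ (UCent.W.mk' (planes.getD (f g).val (0, 0)).2)) = true := by
    intro g
    have hh : ∀ w, UCent.perp (act D g a0) w = true → UCent.perp (act D g b0) w = true →
        UCent.flat (act D (g : G)⁻¹ w) = true := by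
      intro w h1 h2
      refine UCent.flat_of_perp fa a0ne fb hab' ?_ ?_ <;> refine UCent.perp_symm ?_
      · rw [← act_perp D hout g.2, act_inv' D g.2]; exact h1
      · rw [← act_perp D hout g.2, act_inv' D g.2]; exact h2
    exact ⟨hh _ (hf g).1 (hf g).2.2.1, hh _ (hf g).2.1 (hf g).2.2.2⟩
  have pline : ∀ i : Fin 27, UCent.onLine (UCent.W.mk' (planes.getD i.val (0, 0)).1)
      (UCent.W.mk' (planes.getD i.val (0, 0)).2) = false ∧ UCent.W.mk' (planes.getD i.val (0, 0)).1 ≠ 0 := by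
    intro i
    have h := List.all_eq_true.1 planes_check (planes.getD i.val (0, 0)) (by
      rw [List.getD_eq_getElem _ _ (show i.val < planes.length from i.2)]; exact List.getElem_mem _)
    simp only [Bool.and_eq_true, Bool.not_eq_true'] at h
    exact ⟨h.2, (UCent.iso_iff.1 h.1.1.1).2⟩
  -- vectors orthogonal to a plane pulled back are flat
  have back : ∀ (g : Cz D) {w}, UCent.perp w (UCent.W.mk' (planes.getD (f g).val (0, 0)).1) = true →
      UCent.perp w (UCent.W.mk' (planes.getD (f g).val (0, 0)).2) = true →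
      UCent.flat (act D (g : G)⁻¹ w) = true := by
    intro g w h1 h2
    obtain ⟨p1, p2⟩ := pull g
    have hi := inv_mem (g.2 : (g : G) ∈ Cz D)
    refine UCent.flat_of_perp p1 (fun e => (pline (f g)).2 ?_) p2 ?_ ?_ ?_
    · rw [← act_inv' D g.2 (UCent.W.mk' _), e, act_zero D g.2]
    · refine Bool.eq_false_iff.2 fun h => ?_
      have := actLine g.2 h
      rw [act_inv' D g.2, act_inv' D g.2, (pline (f g)).1] at this
      exact Bool.noConfusion this
    · rw [act_perp D hout hi]; exact h1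
    · rw [act_perp D hout hi]; exact h2
  -- the stabiliser normalises `A`
  have hfib : ∀ g g' : Cz D, f g = f g' → (g : G)⁻¹ * (g' : G) ∈ normalizer (D.A : Set G) := by
    intro g g' e
    set h := (g : G)⁻¹ * (g' : G) with hh
    have hc : h ∈ Cz D := mul_mem (inv_mem g.2) g'.2
    have hfl : ∀ w, UCent.flat w = true → UCent.flat (act D h w) = true := by
      have h1 : ∀ w, UCent.perp (act D g' w) (UCent.W.mk' (planes.getD (f g).val (0, 0)).1) = true →
          UCent.perp (act D g' w) (UCent.W.mk' (planes.getD (f g).val (0, 0)).2) = true →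
          UCent.flat (act D h w) = true := fun w k1 k2 => by
        rw [hh, act_mul D (inv_mem g.2) g'.2]; exact back g k1 k2
      have ha := h1 a0 (e ▸ (hf g').1) (e ▸ (hf g').2.1)
      have hb := h1 b0 (e ▸ (hf g').2.2.1) (e ▸ (hf g').2.2.2)
      intro w hw
      obtain ⟨x, y, rfl, hx, hy⟩ := span w hw
      rw [act_add D hc]
      have hx' := UCent.flat_line ha (actLine hc hx)
      have hy' := UCent.flat_line hb (actLine hc hy)
      have key : (UCent.flatList.all fun x => UCent.flatList.all fun y => UCent.flat (x + y)) = true := by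
        decide +kernel
      exact List.all_eq_true.1 (List.all_eq_true.1 key _ (UCent.mem_flatList hx')) _ (UCent.mem_flatList hy')
    have hB : ∀ x ∈ D.Bg, h * x * h⁻¹ ∈ D.Bg := by
      intro x hx
      have hxL := A_LL D hx.1
      obtain ⟨hQ', hL'⟩ := conj_QL D hc hx.2 hxL
      refine D.mem_Bg.2 ⟨hQ', (wv_phi_flat D hQ' hL').1 ?_⟩
      rw [act_wv D hc hx.2 hxL]
      exact hfl _ ((wv_phi_flat D hx.2 hxL).2 (D.mem_Bg.1 hx).2)
    have hBeq : D.Bg.map (MulAut.conj h).toMonoidHom = D.Bg := eq_of_le_of_card_ge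
      (by rintro _ ⟨x, hx, rfl⟩; exact hB x hx) (by rw [card_map_of_injective (MulAut.conj h).injective])
    refine D.mem_normalizer_A fun a ha => D.conj_mem hc.2 (fun x hx => ?_) ha
    have hy : h * x * h⁻¹ ∈ Subgroup.centralizer ({z} : Set G) :=
      mul_mem (mul_mem hc.2 (D.A_cen hx)) (inv_mem hc.2)
    obtain ⟨a', ha', hax⟩ := D.A_full _ hy fun q hq hflat => by
      have hqB : q ∈ D.Bg := D.mem_Bg.2 ⟨hq, hflat⟩
      rw [← hBeq] at hqB
      obtain ⟨b, hb, rfl⟩ := hqB
      refine congrArg D.co ?_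
      show h * x * h⁻¹ * (h * b * h⁻¹) * (h * x * h⁻¹)⁻¹ = h * b * h⁻¹
      calc h * x * h⁻¹ * (h * b * h⁻¹) * (h * x * h⁻¹)⁻¹ = h * (x * b * x⁻¹) * h⁻¹ := by group
        _ = h * b * h⁻¹ := by rw [D.A_comm hx hb.1, mul_inv_cancel_right]
    have := mul_mem (mem_sup_left (T := Y.Qg) (inv_mem ha')) (mem_sup_right (S := D.A) hax)
    rwa [inv_mul_cancel_left] at this
  -- every plane is reached
  have hsurj : Function.Surjective f := by
    let r : Fin 27 → Cz D := fun i => if h : ∃ g, f g = i then h.choose else 1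
    have hr : ∀ g, f (r (f g)) = f g := fun g => by
      have h : ∃ g', f g' = f g := ⟨g, rfl⟩
      simp only [r, dif_pos h]
      exact h.choose_spec
    let F : Cz D → Set.range f × ↥(normalizer (D.A : Set G) ⊓ Cz D) := fun g =>
      (⟨f g, g, rfl⟩, ⟨((r (f g) : G))⁻¹ * (g : G),
        Subgroup.mem_inf.2 ⟨hfib _ _ (hr g), mul_mem (inv_mem (r (f g)).2) g.2⟩⟩)
    have hFi : Function.Injective F := fun a b e => by
      obtain ⟨e1, e2⟩ := Prod.ext_iff.1 e
      have e1' : f a = f b := congrArg Subtype.val e1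
      have e2' : ((r (f a) : G))⁻¹ * (a : G) = ((r (f b) : G))⁻¹ * (b : G) := congrArg Subtype.val e2
      rw [e1'] at e2'
      exact Subtype.ext (mul_left_cancel e2')
    have hle := Nat.card_le_card_of_injective F hFi
    rw [Nat.card_prod, Nat.card_coe_set_eq, card_Cz D hF hQ hpt hout] at hle
    have h2 := hle.trans (Nat.mul_le_mul_left _ (card_norm_Cz D hF hQ hpt hout))
    have hall : Set.range f = Set.univ := by
      refine Set.eq_of_subset_of_ncard_le (Set.subset_univ _) ?_ (Set.toFinite _)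
      rw [Set.ncard_univ, Nat.card_fin]
      omega
    exact Set.range_eq_univ.1 hall
  obtain ⟨i, c1, c2, c3, c4⟩ := cover hp hr hpr hl
  obtain ⟨g, rfl⟩ := hsurj i
  exact ⟨(g : G)⁻¹, inv_mem g.2, back g c1 c2, back g c3 c4⟩

end

end CfsgLib.FischerTwoFour.FourCert
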