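import Cfsg.Agent.Lib.FischerTwoFour.FourCert.Orbit
import Cfsg.Agent.Lib.ThreeTrans.UCent.Final
import Cfsg.Agent.Lib.ClassicalGroups.UnitarySimple
import Cfsg.Prelude.Def_CaseTheorems

/-!
The centraliser of the four-group modulo the four-group satisfies the hypotheses recognising the
six-dimensional unitary group over four elements, and is quasisimple.
-/

set_option autoImplicit false
set_option linter.unusedSectionVars false
set_option maxRecDepth 100000

namespace CfsgLib.FischerTwoFour.FourCert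

open Subgroup
open CfsgLib.FischerTwoFour.Cocode
open CfsgLib.ThreeTrans
open scoped commutatorElement

variable {G : Type*} [Group G] [Finite G] {z : G} {Y : CfsgLib.FischerTwoFour.Sys z} (D : AData Y)

instance four_normal : ((four D).subgroupOf (LL D)).Normal := ⟨fun x hx g => by
  rw [mem_subgroupOf] at hx ⊢
  show (g : G) * (x : G) * (g : G)⁻¹ ∈ four D
  rw [four_fix D g.2 hx]
  exact hx⟩

/-- The quotient. -/
abbrev Gb : Type _ := ↥(LL D) ⧸ (four D).subgroupOf (LL D)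

/-- The projection. -/
abbrev pj : ↥(LL D) →* Gb D := QuotientGroup.mk' _

/-- The image of `z`. -/
abbrev dd : Gb D := pj D ⟨z, z_LL D⟩

theorem pj_eq {a b : LL D} : pj D a = pj D b ↔ (a : G)⁻¹ * (b : G) ∈ four D :=
  QuotientGroup.eq.trans mem_subgroupOf

theorem pj_surj (x : Gb D) : ∃ a, pj D a = x := QuotientGroup.mk'_surjective _ x

theorem dd_ne : dd D ≠ 1 := fun e => z_notMem_four D (mem_subgroupOf.1 ((QuotientGroup.eq_one_iff _).1 e))

theorem order_dd : orderOf (dd D) = 2 := by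
  have : Fact (Nat.Prime 2) := ⟨Nat.prime_two⟩
  refine orderOf_eq_prime ?_ (dd_ne D)
  rw [pow_two, ← map_mul, show (⟨z, z_LL D⟩ : LL D) * ⟨z, z_LL D⟩ = 1 from Subtype.ext Y.zz, map_one]

theorem commute_dd {g : LL D} : Commute (pj D g) (dd D) ↔ (g : G) ∈ Cz D := by
  constructor
  · intro h
    refine Subgroup.mem_inf.2 ⟨g.2, mem_centralizer_singleton_iff.2 ?_⟩
    have e : pj D (g * ⟨z, z_LL D⟩) = pj D (⟨z, z_LL D⟩ * g) := by rw [map_mul, map_mul]; exact h.eq
    rw [pj_eq] at e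
    simp only [Subgroup.coe_mul, mul_inv_rev] at e
    obtain ⟨k, hk, hk'⟩ := e
    by_contra hne
    have hk0 : k ≠ 0 := fun e0 => hne (by
      rw [e0, D.phi_zero] at hk'
      calc (g : G) * z = g * z * 1 := (mul_one _).symm
        _ = g * z * (z⁻¹ * (g : G)⁻¹ * (z * g)) := by rw [hk']
        _ = z * g := by group)
    refine (nc_code D (c := Nat.xor k 64) ?_).2.2 ?_
    · have : k = 1 ∨ k = 2 ∨ k = 3 := by omega
      rcases this with rfl | rfl | rfl <;> decide +kernel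
    · have e2 : z * D.phi k = (g : G)⁻¹ * z * (g : G)⁻¹⁻¹ := by rw [hk']; group
      rw [← D.phi_flip, Y.zcomm (Y.le_cen (D.phi_mem k).2) (Or.inr rfl), e2]
      exact isConj_iff.2 ⟨(g : G)⁻¹, rfl⟩
  · intro h
    show pj D g * dd D = dd D * pj D g
    rw [← map_mul, ← map_mul]
    exact congrArg _ (Subtype.ext (mem_centralizer_singleton_iff.1 h.2))

/-- The subgroup over `Q`. -/
abbrev Qb : Subgroup (Gb D) := (Y.Qg.subgroupOf (LL D)).map (pj D)

/-- The subgroup over `A`. -/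
abbrev Ab : Subgroup (Gb D) := (D.A.subgroupOf (LL D)).map (pj D)

theorem mem_Qb {x : Gb D} : x ∈ Qb D ↔ ∃ q : LL D, (q : G) ∈ Y.Qg ∧ pj D q = x :=
  ⟨fun ⟨q, hq, e⟩ => ⟨q, mem_subgroupOf.1 hq, e⟩, fun ⟨q, hq, e⟩ => ⟨q, mem_subgroupOf.2 hq, e⟩⟩

theorem mem_Ab {x : Gb D} : x ∈ Ab D ↔ ∃ q : LL D, (q : G) ∈ D.A ∧ pj D q = x :=
  ⟨fun ⟨q, hq, e⟩ => ⟨q, mem_subgroupOf.1 hq, e⟩, fun ⟨q, hq, e⟩ => ⟨q, mem_subgroupOf.2 hq, e⟩⟩

open scoped Classical in
/-- The coordinates on the quotient. -/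
noncomputable def coB (x : Gb D) : UCent.W :=
  if h : ∃ q : LL D, (q : G) ∈ Y.Qg ∧ pj D q = x then wv D (h.choose : G) else 0

theorem coB_pj {q : LL D} (hq : (q : G) ∈ Y.Qg) : coB D (pj D q) = wv D (q : G) := by
  have h : ∃ p : LL D, (p : G) ∈ Y.Qg ∧ pj D p = pj D q := ⟨q, hq, rfl⟩
  rw [coB, dif_pos h]
  obtain ⟨h1, h2⟩ := h.choose_spec
  rw [pj_eq] at h2
  have e : (q : G) = (h.choose : G) * ((h.choose : G)⁻¹ * q) := by group
  conv_rhs => rw [e, wv_mul D h1 (four_Bg D h2).2, wv_four D h2, add_zero]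

theorem cj_pj (g q : LL D) : UCent.cj (pj D g) (pj D q) = pj D (g * q * g⁻¹) := by
  simp [UCent.cj, map_mul, map_inv]

theorem coB_cj {g q : LL D} (hg : (g : G) ∈ Cz D) (hq : (q : G) ∈ Y.Qg) :
    coB D (UCent.cj (pj D g) (pj D q)) = act D (g : G) (coB D (pj D q)) := by
  rw [cj_pj, coB_pj D (q := g * q * g⁻¹) (Y.normQ _ hg.2 _ hq), coB_pj D hq]
  exact act_wv D hg hq q.2

theorem Qb_le {x : Gb D} (hx : x ∈ Qb D) : Commute x (dd D) := by
  obtain ⟨q, hq, rfl⟩ := (mem_Qb D).1 hx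
  exact (commute_dd D).2 (Qg_Cz D hq q.2)

/-- A coset of the four-group with a conjugate in the centraliser has a member. -/
theorem member_of_conj {a : LL D} (ha : (a : G) ∈ D.A) (h : IsConj (dd D) (pj D a)) :
    ∃ k, k < 4 ∧ Member D ((a : G) * D.phi k) := by
  obtain ⟨x, hx⟩ := isConj_iff.1 h
  obtain ⟨l, rfl⟩ := pj_surj D x
  rw [← map_inv, ← map_mul, ← map_mul, eq_comm, pj_eq] at hx
  simp only [Subgroup.coe_mul, Subgroup.coe_inv] at hx
  obtain ⟨k, hk, hk'⟩ := hx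
  have e : (a : G) * D.phi k = (l : G) * z * (l : G)⁻¹ := by rw [hk']; group
  refine ⟨k, hk, mul_mem ha (D.phi_mem k).1, by rw [e]; exact isConj_iff.2 ⟨l, rfl⟩, fun j hj hc => ?_⟩
  have hj4 : j < 4 := by simp at hj; omega
  rw [e, show (l : G) * z * (l : G)⁻¹ * D.phi j = (l : G) * z * (l : G)⁻¹ * ((l : G) * D.phi j * (l : G)⁻¹) by
    rw [four_fix D l.2 (phi_mem_four D hj4)],
    show (l : G) * z * (l : G)⁻¹ * ((l : G) * D.phi j * (l : G)⁻¹) = (l : G) * (z * D.phi j) * (l : G)⁻¹ by group,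
    isConj_conj_iff] at hc
  exact (member_z D).2.2 j hj hc

theorem nat_xor_comm4 (c s e : ℕ) : Nat.xor (Nat.xor c e) s = Nat.xor (Nat.xor c s) e := by
  simp only [nxor, Nat.xor_assoc, Nat.xor_comm e s]

theorem member_table {n s c : ℕ} (hn : n < 16) (hc : c < 128)
    (hs : ∀ c, c < 128 → (IsConj z (D.rep n * D.phi c) ↔ ty D.b n (Nat.xor c s) = true)) :
    Member D (D.rep n * D.phi c) ↔ mem3 D.b n (Nat.xor c s) = true := by
  have hk : ∀ k, k < 4 → (IsConj z (D.rep n * D.phi c * D.phi k) ↔ ty D.b n (Nat.xor (Nat.xor c s) k) = true) :=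
    fun k hk => by
      rw [mul_assoc, D.phi_mul, hs _ (xor_lt' (k := 7) hc (by omega)), nat_xor_comm4]
  constructor
  · rintro ⟨-, h2, h3⟩
    simp only [mem3, Bool.and_eq_true, Bool.not_eq_true', ← Bool.not_eq_true]
    exact ⟨⟨⟨(hs c hc).1 h2, fun h => h3 1 (by simp) ((hk 1 (by norm_num)).2 h)⟩,
      fun h => h3 2 (by simp) ((hk 2 (by norm_num)).2 h)⟩, fun h => h3 3 (by simp) ((hk 3 (by norm_num)).2 h)⟩
  · intro h
    simp only [mem3, Bool.and_eq_true, Bool.not_eq_true', ← Bool.not_eq_true] at h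
    refine ⟨mul_mem (D.rep_spec hn).1 (D.phi_mem c).1, (hs c hc).2 h.1.1.1, fun k hk' hc' => ?_⟩
    simp only [List.mem_cons, List.not_mem_nil, or_false] at hk'
    rcases hk' with rfl | rfl | rfl
    · exact h.1.1.2 ((hk 1 (by norm_num)).1 hc')
    · exact h.1.2 ((hk 2 (by norm_num)).1 hc')
    · exact h.2 ((hk 3 (by norm_num)).1 hc')

theorem act_tvN {r : ℕ × ℕ} (hr : r ∈ tvN D.b) {a : G} (ha : a ∈ D.A) (hact : D.Acts a r.1) (w : UCent.W) :
    act D a w = UCent.tv (UCent.W.mk' r.2) w := by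
  have h := List.all_eq_true.1 (tvN_check D.b) r hr
  simp only [Bool.and_eq_true, List.all_eq_true, beq_iff_eq, Nat.ble_eq] at h
  obtain ⟨⟨⟨⟨⟨-, h1⟩, -⟩, -⟩, -⟩, h2⟩ := h
  rw [act_A D ha (by omega) hact]
  exact UCent.eq_of_units (fun x y => actW_add (by omega) x y) (UCent.tv_add _)
    (List.all_eq_true.2 fun j hj => beq_iff_eq.2 (h2 j hj)) w

section

variable (hpt : HasPts Y)

include hpt

/-- The members and their maps. -/
theorem member_cases {y : G} (hy : Member D y) :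
    (y = z ∨ ∃ r ∈ tvN D.b, D.Acts y r.1) ∧ ∀ k, k < 4 → ¬ Member D (y * z * D.phi k) := by
  obtain ⟨n, c, hn, hc, hact, rfl⟩ := D.exists_rep_code hy.1
  obtain ⟨s, hs0, hs1, hs⟩ := conj_rep_phi D hpt hn
  have hm := (member_table D hn hc hs).1 hy
  have hcs : Nat.xor c s < 128 := xor_lt' (k := 7) hc (by rcases hs0 with rfl | rfl <;> norm_num)
  have h := List.all_eq_true.1 (List.all_eq_true.1 (mem3_check D.b) n (List.mem_range.2 hn)) _ (List.mem_range.2 hcs)
  rw [hm, Bool.not_true, Bool.false_or, Bool.and_eq_true] at h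
  refine ⟨?_, fun k hk hk' => ?_⟩
  · rcases Bool.or_eq_true_iff.1 h.1 with h1 | h1
    · rw [Bool.and_eq_true] at h1
      have hn0 := Nat.eq_of_beq_eq_true h1.1
      subst hn0
      have h64 := Nat.eq_of_beq_eq_true h1.2
      rw [hs1 rfl, show Nat.xor c 0 = c from Nat.xor_zero c] at h64
      subst h64
      left
      rw [(D.rep_spec hn).2.2.2 rfl, one_mul, D.phi_z]
    · obtain ⟨r, hr, hr'⟩ := List.any_eq_true.1 h1
      exact Or.inr ⟨r, hr, (Nat.eq_of_beq_eq_true hr').symm ▸ hact⟩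
  · rw [D.rep_z, mul_assoc, D.phi_mul] at hk'
    have hc' : Nat.xor (Nat.xor c 64) k < 128 :=
      xor_lt' (k := 7) (xor_lt' (k := 7) hc (by norm_num)) (by omega)
    have h' := (member_table D hn hc' hs).1 hk'
    rw [nat_xor_comm4, nat_xor_comm4 c s 64] at h'
    have h2 := List.all_eq_true.1 h.2 k (List.mem_range.2 hk)
    rw [h'] at h2
    exact Bool.noConfusion h2

/-- Every transvection of a flat vector comes from a member. -/
theorem exists_member {p : UCent.W} (hp : UCent.flat p = true) (hp0 : p ≠ 0) :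
    ∃ y, Member D y ∧ ∀ w, act D y w = UCent.tv p w := by
  have h := List.all_eq_true.1 (tvN_cover D.b) p (UCent.mem_flatList hp)
  rw [Bool.or_eq_true, beq_iff_eq] at h
  obtain ⟨r, hr, hline⟩ := List.any_eq_true.1 (h.resolve_left hp0)
  have ht := List.all_eq_true.1 (tvN_check D.b) r hr
  simp only [Bool.and_eq_true, Nat.ble_eq, Bool.not_eq_true', beq_eq_false_iff_ne] at ht
  obtain ⟨⟨⟨⟨⟨h1, h16⟩, hflat⟩, hr0⟩, hm3⟩, -⟩ := ht
  have hn : r.1 < 16 := by omega
  obtain ⟨s, hs0, -, hs⟩ := conj_rep_phi D hpt hn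
  have hc : Nat.xor 3 s < 128 := xor_lt' (k := 7) (by norm_num) (by rcases hs0 with rfl | rfl <;> norm_num)
  have hmem : Member D (D.rep r.1 * D.phi (Nat.xor 3 s)) := (member_table D hn hc hs).2 (by
    rw [show Nat.xor (Nat.xor 3 s) s = 3 by rcases hs0 with rfl | rfl <;> rfl]
    exact hm3)
  refine ⟨_, hmem, fun w => ?_⟩
  rw [act_tvN D hr hmem.1 (D.acts_mul_Qg (D.rep_spec hn).2.1 (D.phi_mem _).2)]
  exact (UCent.tv_same (UCent.flat_iso hflat hr0) hp0 hline w)

end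

section

variable {Q : Subgroup (Subgroup.centralizer ({z} : Set G))} [Q.Normal]
  (hF : Cfsg.IsOfLargeFischerTypeAt z Q) (hQ : Y.Qg = Q.map (Subgroup.centralizer ({z} : Set G)).subtype)
  (hpt : HasPts Y)
  (hout : ∀ c ∈ Subgroup.centralizer ({z} : Set G), c ∉ Y.M → ∀ q ∈ Y.Qg,
    D.co (c * Y.sh q * c⁻¹) = Four.omV (Four.omV (D.co (c * q * c⁻¹))))

/-- The hypotheses of the recognition hold. -/
noncomputable def hyp : UCent.Hyp (dd D) where
  ord := order_dd D
  Q := Qb D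
  Q_le q hq := Qb_le D hq
  dQ := (mem_Qb D).2 ⟨_, Y.zQ, rfl⟩
  Q_norm g hg q hq := by
    obtain ⟨a, rfl⟩ := pj_surj D g
    obtain ⟨b, hb, rfl⟩ := (mem_Qb D).1 hq
    exact (mem_Qb D).2 ⟨a * b * a⁻¹, Y.normQ _ ((commute_dd D).1 hg).2 _ hb, (cj_pj D a b).symm⟩
  co := coB D
  co_mul p hp q hq := by
    obtain ⟨a, ha, rfl⟩ := (mem_Qb D).1 hp
    obtain ⟨b, hb, rfl⟩ := (mem_Qb D).1 hq
    rw [← map_mul, coB_pj D (q := a * b) (mul_mem ha hb), coB_pj D ha, coB_pj D hb]
    exact wv_mul D ha hb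
  co_surj x := by
    refine ⟨pj D ⟨sec D x, sec_LL D x⟩, (mem_Qb D).2 ⟨_, sec_Qg D x, rfl⟩, ?_⟩
    rw [coB_pj D (q := ⟨sec D x, sec_LL D x⟩) (sec_Qg D x)]
    exact wv_sec D x
  co_ker q hq := by
    obtain ⟨a, ha, rfl⟩ := (mem_Qb D).1 hq
    rw [coB_pj D ha]
    constructor
    · intro h
      obtain ⟨e, x, he, hx, hax⟩ := wv_eq_zero D ha a.2 h
      rcases he with he | he <;> rw [he] at hax
      · left
        rw [one_mul] at hax
        exact (QuotientGroup.eq_one_iff _).2 (mem_subgroupOf.2 (hax ▸ hx))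
      · right
        refine (pj_eq D).2 ?_
        show (a : G)⁻¹ * z ∈ four D
        rw [hax, mul_inv_rev, inv_mul_cancel_right]
        exact inv_mem hx
    · rintro (h | h)
      · exact wv_four D (mem_subgroupOf.1 ((QuotientGroup.eq_one_iff _).1 h))
      · rw [← coB_pj D ha, h, coB_pj D (q := ⟨z, z_LL D⟩) Y.zQ]
        exact wv_inZ D (Or.inr rfl)
  comm p hp q hq := by
    obtain ⟨a, ha, rfl⟩ := (mem_Qb D).1 hp
    obtain ⟨b, hb, rfl⟩ := (mem_Qb D).1 hq
    rw [coB_pj D ha, coB_pj D hb, ← comm_iff D ha hb a.2 b.2, ← map_mul, ← map_mul, pj_eq]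
    simp only [Subgroup.coe_mul, mul_inv_rev]
    constructor
    · intro h
      rcases Y.comm (b : G)⁻¹ (inv_mem hb) (a : G)⁻¹ (inv_mem ha) with e | e <;> rw [inv_inv, inv_inv] at e
      · calc (a : G) * b = a * b * ((b : G)⁻¹ * (a : G)⁻¹ * (b * a)) := by rw [← mul_assoc ((b : G)⁻¹ * _), e, mul_one]
          _ = b * a := by group
      · exact absurd (by rw [← mul_assoc, e] at h; exact h) (z_notMem_four D)
    · intro h
      rw [← h, show (b : G)⁻¹ * (a : G)⁻¹ * ((a : G) * b) = 1 by group]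
      exact one_mem _
  sq q hq := by
    obtain ⟨a, ha, rfl⟩ := (mem_Qb D).1 hq
    rw [coB_pj D ha, ← sq_iff D ha a.2, ← map_mul]
    constructor
    · intro h
      have h' := mem_subgroupOf.1 ((QuotientGroup.eq_one_iff _).1 h)
      rcases Y.sq _ ha with e | e
      · exact e
      · exact absurd (by rw [Subgroup.coe_mul, e] at h'; exact h') (z_notMem_four D)
    · intro h
      rw [show a * a = 1 from Subtype.ext h, map_one]
  co_om g hg q hq q' hq' e := by
    obtain ⟨a, rfl⟩ := pj_surj D g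
    obtain ⟨b, hb, rfl⟩ := (mem_Qb D).1 hq
    obtain ⟨b', hb', rfl⟩ := (mem_Qb D).1 hq'
    rw [coB_cj D ((commute_dd D).1 hg) hb', coB_cj D ((commute_dd D).1 hg) hb, e,
      act_om D hout ((commute_dd D).1 hg)]
  faithful g hg h := by
    obtain ⟨a, rfl⟩ := pj_surj D g
    have ha := (commute_dd D).1 hg
    refine (mem_Qb D).2 ⟨a, mem_Qg_of_act D ha fun w => ?_, rfl⟩
    have e := h (pj D ⟨sec D w, sec_LL D w⟩) ((mem_Qb D).2 ⟨_, sec_Qg D w, rfl⟩)
    rw [coB_cj D ha (q := ⟨sec D w, sec_LL D w⟩) (sec_Qg D w),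
      coB_pj D (q := ⟨sec D w, sec_LL D w⟩) (sec_Qg D w), wv_sec] at e
    exact e
  A := Ab D
  A_sq x hx := by
    obtain ⟨a, ha, rfl⟩ := (mem_Ab D).1 hx
    rw [← map_mul, show a * a = 1 from Subtype.ext (D.A_sq _ ha), map_one]
  dA := (mem_Ab D).2 ⟨_, D.z_mem_A, rfl⟩
  A_Q q hq := by
    obtain ⟨b, hb, rfl⟩ := (mem_Qb D).1 hq
    rw [coB_pj D hb]
    constructor
    · intro h
      obtain ⟨a, ha, e⟩ := (mem_Ab D).1 h
      rw [pj_eq] at e
      refine (wv_phi_flat D hb b.2).2 ((D.A_Q _ hb).1 ?_)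
      have := mul_mem ha (four_Bg D e).1
      rwa [← mul_assoc, mul_inv_cancel, one_mul] at this
    · intro h
      exact (mem_Ab D).2 ⟨b, (D.A_Q _ hb).2 ((wv_phi_flat D hb b.2).1 h), rfl⟩
  has p hp hp0 := by
    obtain ⟨P⟩ := exists_labels D hF hQ hpt
    obtain ⟨y, hy, hact⟩ := exists_member D hpt hp hp0
    obtain ⟨m, hm, hmy⟩ := member_move D P hy
    refine ⟨pj D ⟨y, A_LL D hy.1⟩, (mem_Ab D).2 ⟨_, hy.1, rfl⟩, isConj_iff.2 ⟨pj D ⟨m, hm⟩, ?_⟩, fun q hq => ?_⟩
    · rw [← map_inv, ← map_mul, ← map_mul]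
      exact congrArg _ (Subtype.ext hmy)
    · obtain ⟨b, hb, rfl⟩ := (mem_Qb D).1 hq
      rw [coB_cj D (g := ⟨y, A_LL D hy.1⟩) (A_Cz D hy.1) hb]
      exact hact _
  only x hx hc := by
    obtain ⟨a, ha, rfl⟩ := (mem_Ab D).1 hx
    obtain ⟨k, hk, hy⟩ := member_of_conj D ha hc
    rcases (member_cases D hpt hy).1 with e | ⟨r, hr, hact⟩
    · left
      refine (pj_eq D).2 ?_
      show (a : G)⁻¹ * z ∈ four D
      rw [show (a : G)⁻¹ * z = D.phi k from inv_mul_eq_iff_eq_mul.2 e.symm]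
      exact phi_mem_four D hk
    · right
      have ht := List.all_eq_true.1 (tvN_check D.b) r hr
      simp only [Bool.and_eq_true, Bool.not_eq_true', beq_eq_false_iff_ne] at ht
      refine ⟨UCent.W.mk' r.2, ht.1.1.1.2, ht.1.1.2, fun q hq => ?_⟩
      obtain ⟨b, hb, rfl⟩ := (mem_Qb D).1 hq
      rw [coB_cj D (A_Cz D ha) hb, ← act_tvN D hr hy.1 hact, act_mul D (A_Cz D ha) (A_Cz D (D.phi_mem k).1),
        act_Qg D (D.phi_mem k).2 (A_LL D (D.phi_mem k).1)]
  ad_not x hx hc h := by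
    obtain ⟨a, ha, rfl⟩ := (mem_Ab D).1 hx
    obtain ⟨k, hk, hy⟩ := member_of_conj D ha hc
    rw [← map_mul] at h
    obtain ⟨j, hj, hy'⟩ := member_of_conj D (a := a * ⟨z, z_LL D⟩) (mul_mem ha D.z_mem_A) h
    refine (member_cases D hpt hy).2 (Nat.xor k j) (xor_lt_four hk hj) ?_
    have e : (a : G) * D.phi k * z * D.phi (Nat.xor k j) = (a : G) * z * D.phi j := by
      rw [← D.phi_mul, mul_assoc (a : G) (D.phi k) z, Y.zcomm (Y.le_cen (D.phi_mem k).2) (Or.inr rfl),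
        show (a : G) * (z * D.phi k) * (D.phi k * D.phi j) = (a : G) * z * (D.phi k * D.phi k) * D.phi j by group,
        D.A_sq _ (D.phi_mem k).1, mul_one]
    rw [e]
    exact hy'
  move p r hp hr hpr hl := by
    obtain ⟨g, hg, h1, h2⟩ := exists_to_flat D hF hQ hpt hout hp hr hpr hl
    refine ⟨pj D ⟨g, hg.1⟩, (commute_dd D).2 hg, fun q hq e => ?_, fun q hq e => ?_⟩ <;>
      obtain ⟨b, hb, rfl⟩ := (mem_Qb D).1 hq <;> rw [coB_cj D (g := ⟨g, hg.1⟩) hg hb, e]
    · exact h1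
    · exact h2
  card_le := by
    classical
    let f : ↥(Subgroup.centralizer ({dd D} : Set (Gb D))) × four D → Cz D := fun x =>
      ⟨((pj_surj D x.1.1).choose : G) * (x.2 : G), mul_mem
        ((commute_dd D).1 (by rw [(pj_surj D x.1.1).choose_spec]; exact mem_centralizer_singleton_iff.1 x.1.2))
        (A_Cz D (four_Bg D x.2.2).1)⟩
    have hf : Function.Injective f := fun x y e => by
      have e' := congrArg Subtype.val e
      simp only [f] at e'
      have h1 : x.1 = y.1 := by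
        refine Subtype.ext ?_
        rw [← (pj_surj D x.1.1).choose_spec, ← (pj_surj D y.1.1).choose_spec, pj_eq,
          show ((pj_surj D x.1.1).choose : G)⁻¹ * ((pj_surj D y.1.1).choose : G) = (x.2 : G) * (y.2 : G)⁻¹ by
            calc ((pj_surj D x.1.1).choose : G)⁻¹ * ((pj_surj D y.1.1).choose : G)
                = ((pj_surj D x.1.1).choose : G)⁻¹ * (((pj_surj D y.1.1).choose : G) * (y.2 : G)) * (y.2 : G)⁻¹ := by group
              _ = (x.2 : G) * (y.2 : G)⁻¹ := by rw [← e']; group]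
        exact mul_mem x.2.2 (inv_mem y.2.2)
      refine Prod.ext h1 (Subtype.ext ?_)
      rw [h1] at e'
      exact mul_left_cancel e'
    have h := Nat.card_le_card_of_injective f hf
    rw [Nat.card_prod, card_four, card_Cz D hF hQ hpt hout] at h
    omega

include hF hQ hpt hout

/-- The quotient is the unitary group. -/
theorem quot_psu : ∃ (K : Type) (_ : Field K) (_ : Fintype K), Fintype.card K = 4 ∧
    Nonempty (Gb D ≃* Cfsg.PSU 6 K 2) :=
  (hyp D hF hQ hpt hout).recognise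

/-- The centraliser of the four-group is quasisimple. -/
theorem quasisimple : Cfsg.IsQuasisimple ↥(LL D) := by
  obtain ⟨K, iF, iT, hK, ⟨e⟩⟩ := quot_psu D hF hQ hpt hout
  classical
  have hs0 : IsSimpleGroup (Cfsg.PSU 6 K 2) :=
    CfsgLib.ClassicalGroups.psu_isSimpleGroup (by rw [hK]; norm_num) (by norm_num) (by simp)
  have : Nontrivial (Gb D) := ⟨⟨dd D, 1, dd_ne D⟩⟩
  have hs : IsSimpleGroup (Gb D) := IsSimpleGroup.isSimpleGroup_of_surjective e.symm.toMonoidHom e.symm.surjective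
  obtain ⟨x0, hx0, hl0, e0⟩ := exists_lift_wv D (UCent.W.mk' 1)
  obtain ⟨x1, hx1, hl1, e1⟩ := exists_lift_wv D (UCent.W.mk' 2)
  have hne : x0 * x1 ≠ x1 * x0 := fun h => by
    rw [comm_iff D hx0 hx1 hl0 hl1, e0, e1] at h
    exact absurd h (by decide +kernel)
  set N := commutator ↥(LL D) with hN
  have hzN : (⟨z, z_LL D⟩ : LL D) ∈ N := by
    have h : ⁅(⟨x0, hl0⟩ : LL D), (⟨x1, hl1⟩ : LL D)⁆ = (⟨z, z_LL D⟩ : LL D) := Subtype.ext (by
      show x0 * x1 * x0⁻¹ * x1⁻¹ = z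
      exact (Y.comm x0 hx0 x1 hx1).resolve_left fun h => hne (mul_inv_eq_iff_eq_mul.1 (mul_inv_eq_one.1 h)))
    rw [← h]
    exact Subgroup.commutator_mem_commutator (mem_top _) (mem_top _)
  -- the four-group lies in the derived subgroup
  let In : ℕ → Prop := fun v => ∃ x : LL D, x ∈ N ∧ (x : G) ∈ Y.Qg ∧ D.co (x : G) = vecOf v
  have hxor : ∀ a b, In a → In b → In (Nat.xor a b) := by
    rintro a b ⟨x, hx, hxq, hxe⟩ ⟨y, hy, hyq, hye⟩
    exact ⟨x * y, mul_mem hx hy, mul_mem hxq hyq, by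
      rw [Subgroup.coe_mul, D.co_mul _ hxq _ hyq, hxe, hye, vecOf_xor]⟩
  have hIn : ∀ j, j < 6 → In (bwC D.b (2 ^ j)) := by
    intro j hj
    have h := List.all_eq_true.1 (span_check D.b) j (List.mem_range.2 hj)
    simp only [Bool.and_eq_true, List.all_eq_true, Nat.ble_eq] at h
    rw [← Nat.eq_of_beq_eq_true h.1]
    have hall := h.2
    generalize (spanW D.b).getD j [] = T at hall ⊢
    induction T with
    | nil => exact ⟨1, one_mem _, one_mem _, by rw [List.foldr_nil, OneMemClass.coe_one, D.co_one, vecOf_zero]⟩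
    | cons p T ih =>
      obtain ⟨⟨h1, h2⟩, h3⟩ := hall p List.mem_cons_self
      refine hxor _ _ ?_ (ih fun x hx => hall x (List.mem_cons_of_mem _ hx))
      obtain ⟨a, ha, hact⟩ := D.act_A p.1 (by omega)
      obtain ⟨q, hq, hqe⟩ := D.co_surj (vecOf p.2)
      have hql : q ∈ LL D := (low_four D hq).2 (by rw [hqe, codeOf_vecOf (by omega : p.2 < 4096)]; exact h3)
      refine ⟨⁅(⟨a, A_LL D ha⟩ : LL D), ⟨q, hql⟩⁆, Subgroup.commutator_mem_commutator (mem_top _) (mem_top _),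
        mul_mem (Y.normQ a (D.A_cen ha) q hq) (inv_mem hq), ?_⟩
      show D.co (a * q * a⁻¹ * q⁻¹) = _
      rw [D.co_mul _ (Y.normQ a (D.A_cen ha) q hq) _ (inv_mem hq), D.co_inv hq, hact q hq, hqe,
        D.Rf_code (by omega) (by omega : p.2 < 4096), vecOf_xor]
  have hphi : ∀ j, j < 2 → (⟨D.phi (2 ^ j), A_LL D (D.phi_mem _).1⟩ : LL D) ∈ N := by
    intro j hj
    obtain ⟨x, hx, hxq, hxe⟩ := hIn j (by omega)
    obtain ⟨e', he', hxe'⟩ := D.co_eq (D.phi_mem (2 ^ j)).2 hxq (by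
      rw [D.co_phi, hxe]
      interval_cases j <;> rfl)
    rcases he' with he' | he' <;> rw [he'] at hxe'
    · rw [one_mul] at hxe'
      rwa [show (⟨D.phi (2 ^ j), A_LL D (D.phi_mem _).1⟩ : LL D) = x from Subtype.ext hxe']
    · rw [show (⟨D.phi (2 ^ j), A_LL D (D.phi_mem _).1⟩ : LL D) = ⟨z, z_LL D⟩ * x from Subtype.ext hxe']
      exact mul_mem hzN hx
  have hEN : (four D).subgroupOf (LL D) ≤ N := by
    intro x hx
    obtain ⟨k, hk, hkx⟩ := mem_subgroupOf.1 hx
    have p1 := hphi 0 (by norm_num)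
    have p2 := hphi 1 (by norm_num)
    interval_cases k
    · rw [show x = 1 from Subtype.ext (hkx.symm.trans D.phi_zero)]; exact one_mem _
    · rwa [show x = ⟨D.phi (2 ^ 0), A_LL D (D.phi_mem _).1⟩ from Subtype.ext hkx.symm]
    · rwa [show x = ⟨D.phi (2 ^ 1), A_LL D (D.phi_mem _).1⟩ from Subtype.ext hkx.symm]
    · rw [show x = (⟨D.phi (2 ^ 0), A_LL D (D.phi_mem _).1⟩ : LL D) * ⟨D.phi (2 ^ 1), A_LL D (D.phi_mem _).1⟩ from
        Subtype.ext (by
          show (x : G) = D.phi 1 * D.phi 2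
          rw [phi_three D, hkx])]
      exact mul_mem p1 p2
  refine ⟨⟨?_⟩, ?_⟩
  · show N = ⊤
    rcases (Subgroup.Normal.map (inferInstance : N.Normal) (pj D) (QuotientGroup.mk'_surjective _)).eq_bot_or_eq_top
      with h | h
    · exfalso
      exact dd_ne D (mem_bot.1 (h ▸ mem_map_of_mem (pj D) hzN))
    · refine eq_top_iff.2 fun x _ => ?_
      obtain ⟨y, hy, hye⟩ : pj D x ∈ N.map (pj D) := h ▸ mem_top _
      have : y⁻¹ * x ∈ N := hEN (mem_subgroupOf.2 ((pj_eq D).1 hye))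
      simpa using mul_mem hy this
  · have hcen : Subgroup.center ↥(LL D) = (four D).subgroupOf (LL D) := by
      refine le_antisymm ?_ fun x hx => mem_center_iff.2 fun g => Subtype.ext ?_
      · rcases (Subgroup.Normal.map (inferInstance : (Subgroup.center ↥(LL D)).Normal) (pj D)
          (QuotientGroup.mk'_surjective _)).eq_bot_or_eq_top with h | h
        · intro c hc
          exact (QuotientGroup.eq_one_iff _).1 (mem_bot.1 (h ▸ mem_map_of_mem (pj D) hc))
        · exfalso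
          obtain ⟨c, hc, hce⟩ : pj D ⟨x0, hl0⟩ ∈ (Subgroup.center ↥(LL D)).map (pj D) := h ▸ mem_top _
          have hd := (pj_eq D).1 hce
          have hc1 : (c : G) * x1 = x1 * (c : G) := (congrArg Subtype.val (mem_center_iff.1 hc ⟨x1, hl1⟩)).symm
          have hd1 : Commute ((c : G)⁻¹ * x0) x1 := (mem_centralizer_iff.1 hl1 _ hd)
          have := (show Commute (c : G) x1 from hc1).mul_left hd1
          rw [mul_inv_cancel_left] at this
          exact hne this.eq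
      · exact (mem_centralizer_iff.1 g.2 _ (mem_subgroupOf.1 hx)).symm
    have : Nontrivial (↥(LL D) ⧸ Subgroup.center ↥(LL D)) :=
      (QuotientGroup.quotientMulEquivOfEq hcen).toEquiv.nontrivial
    exact IsSimpleGroup.isSimpleGroup_of_surjective (QuotientGroup.quotientMulEquivOfEq hcen).symm.toMonoidHom
      (QuotientGroup.quotientMulEquivOfEq hcen).symm.surjective

end

end CfsgLib.FischerTwoFour.FourCert
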