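import Cfsg.Agent.Lib.FischerTwoFour.Cocode.Final
import Cfsg.Agent.Lib.FischerTwoFour.FourCert.Code

/-!
The classes of the elements of `A` by representatives and codes, the labelling of the elements outside
the class of `z` by pairs with the full lift of the Mathieu group, and the moves at a triangle of pairs.
-/

set_option autoImplicit false
set_option linter.unusedSectionVars false

namespace CfsgLib.FischerTwoFour.FourCert

open Subgroup
open CfsgLib.FischerTwoFour.Cocode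

variable {G : Type*} [Group G] [Finite G] {z : G} {Y : CfsgLib.FischerTwoFour.Sys z} (D : AData Y)

theorem nxor_flip (c : ℕ) : Nat.xor (Nat.xor c 64) 64 = c := by
  rw [nxor, nxor, Nat.xor_assoc, Nat.xor_self, Nat.xor_zero]

/-- The types in a coset of `B`: one of the two signs gives the table. -/
theorem conj_rep_phi (hpt : HasPts Y) {n : ℕ} (hn : n < 16) :
    ∃ s, (s = 0 ∨ s = 64) ∧ (n = 0 → s = 0) ∧
      ∀ c, c < 128 → (IsConj z (D.rep n * D.phi c) ↔ ty D.b n (Nat.xor c s) = true) := by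
  classical
  by_cases hn0 : n = 0
  · subst hn0
    refine ⟨0, Or.inl rfl, fun _ => rfl, fun c hc => ?_⟩
    rw [(D.rep_spec hn).2.2.2 rfl, one_mul, show Nat.xor c 0 = c from Nat.xor_zero c]
    by_cases hc0 : c = 0
    · subst hc0
      rw [D.phi_zero]
      refine iff_of_false (fun h => Y.z1 (isConj_one_left.1 h)) ?_
      simp [ty]
    · rw [D.conj_phi hc hc0, ty, show (pn D.b).getD 0 0 = 0 by cases D.b <;> rfl,
        show Nat.beq c 0 = false from Bool.eq_false_iff.2 fun h => hc0 (Nat.eq_of_beq_eq_true h)]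
      simp
  have h1 : 1 ≤ n := by omega
  obtain ⟨hT, hout⟩ := D.rep_pair hpt h1 hn
  have hp := pn_spec D.b
  rw [Bool.and_eq_true] at hp
  have hk := List.all_eq_true.1 hp.2 n (List.mem_range.2 hn)
  rw [Bool.and_eq_true, Nat.ble_eq] at hk
  set k := (pn D.b).getD n 0 with hkdef
  have hk0 : k ≠ 0 := fun e => hn0 (by simpa [e] using hk.2)
  have hty : ∀ c, ty D.b n c = !memL c k := fun c => by
    rw [ty, show Nat.beq n 0 = false from Bool.eq_false_iff.2 fun h => hn0 (Nat.eq_of_beq_eq_true h)]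
    simp [hkdef]
  have hin : ∀ c, c < 128 → memL c k = true → (IsConj z (D.rep n * D.phi c) ↔ IsConj z (D.rep n)) ∧
      (IsConj z (D.rep n * D.phi (Nat.xor c 64)) ↔ IsConj z (D.rep n * z)) := fun c hc h => by
    obtain ⟨q, hq, e⟩ := D.exists_wit h1 hn hc h
    refine ⟨?_, ?_⟩
    · rw [← e]
      exact (isConj_trans_iff (isConj_iff.2 ⟨q⁻¹, by rw [inv_inv]⟩)).symm
    · rw [← D.rep_z, ← e]
      refine (isConj_trans_iff (isConj_iff.2 ⟨q⁻¹, ?_⟩)).symm
      rw [inv_inv]
      calc q⁻¹ * (D.rep n * z) * q = q⁻¹ * D.rep n * (z * q) := by group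
        _ = q⁻¹ * D.rep n * q * z := by rw [← Y.zcomm (Y.le_cen hq) (Or.inr rfl)]; group
  have hclean : ∀ c, c < 128 → memL c k = false → memL (Nat.xor c 64) k = false →
      IsConj z (D.rep n * D.phi c) := fun c hc e1 e2 => by
    refine hout c hc ?_
    rw [inIm, ← hkdef, Bool.or_eq_false_iff]
    rcases flip_cases hc (Nat.mod_lt c (by norm_num)) rfl with e | e
    · rw [← e]; exact ⟨e1, e2⟩
    · rw [e] at e1 e2
      rw [nxor_flip] at e2
      exact ⟨e2, e1⟩
  by_cases hr : IsConj z (D.rep n)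
  · refine ⟨64, Or.inr rfl, fun e => absurd e hn0, fun c hc => ?_⟩
    rw [hty]
    have hc' : Nat.xor c 64 < 128 := xor_lt' (k := 7) hc (by norm_num)
    rcases Bool.eq_false_or_eq_true (memL (Nat.xor c 64) k) with e | e <;> rw [e]
    · have := (hin _ hc' e).2
      rw [nxor_flip] at this
      exact iff_of_false (fun h => hT.1 hr (this.1 h)) (by simp)
    · refine iff_of_true ?_ rfl
      rcases Bool.eq_false_or_eq_true (memL c k) with e' | e'
      · exact (hin c hc e').1.2 hr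
      · exact hclean c hc e' e
  · refine ⟨0, Or.inl rfl, fun _ => rfl, fun c hc => ?_⟩
    rw [hty, show Nat.xor c 0 = c from Nat.xor_zero c]
    rcases Bool.eq_false_or_eq_true (memL c k) with e | e <;> rw [e]
    · exact iff_of_false (fun h => hr ((hin c hc e).1.1 h)) (by simp)
    · refine iff_of_true ?_ rfl
      rcases Bool.eq_false_or_eq_true (memL (Nat.xor c 64) k) with e' | e'
      · have := (hin _ (xor_lt' (k := 7) hc (by norm_num)) e').2
        rw [nxor_flip] at this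
        exact this.2 (by by_contra h; exact hr (hT.2 h))
      · exact hclean c hc e e'

/-- The elements outside the class of `z` as pairs, every element of `M24` lifted. -/
structure Labels where
  p : Cfsg.GolayPt → Cfsg.GolayPt → G
  sym : ∀ i j, p i j = p j i
  mem : ∀ i j, i ≠ j → p i j ∈ D.NcG
  surj : ∀ u ∈ D.NcG, ∃ i j, i ≠ j ∧ p i j = u
  uniq : ∀ i j k l, i ≠ j → k ≠ l → p i j = p k l → (k = i ∧ l = j) ∨ (k = j ∧ l = i)
  lift : ∀ g ∈ Cfsg.M24, ∃ m ∈ normalizer (D.A : Set G), ∀ i j, m * p i j * m⁻¹ = p (g i) (g j)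

theorem exists_labels {Q : Subgroup (Subgroup.centralizer ({z} : Set G))} [Q.Normal]
    (hF : Cfsg.IsOfLargeFischerTypeAt z Q) (hQ : Y.Qg = Q.map (Subgroup.centralizer ({z} : Set G)).subtype)
    (hpt : HasPts Y) : Nonempty (Labels D) := by
  classical
  obtain ⟨p, -, hsym, hNc, hsurj, huniq, hequiv, hker, -, -, -, -⟩ := D.exists_pairs hpt
  obtain ⟨-, hcard⟩ := D.mathieuLocal hF hQ hpt
  set N := normalizer (D.A : Set G)
  choose σ hσM hσ using fun m : N => hequiv m m.2
  let f : N → Cfsg.M24 := fun m => ⟨σ m, hσM m⟩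
  let r : Cfsg.M24 → N := fun g => if h : ∃ m, f m = g then h.choose else 1
  have hr : ∀ m, f (r (f m)) = f m := fun m => by
    have h : ∃ m', f m' = f m := ⟨m, rfl⟩
    simp only [r, dif_pos h]
    exact h.choose_spec
  have hA : ∀ m, ((r (f m))⁻¹ * m : N).1 ∈ D.A := fun m => by
    refine hker _ ((r (f m))⁻¹ * m).2 fun u hu => ?_
    obtain ⟨i, j, -, rfl⟩ := hsurj u hu
    have e : σ (r (f m)) = σ m := congrArg Subtype.val (hr m)
    have e1 := hσ m i j
    have e2 := hσ (r (f m)) i j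
    rw [e, ← e1] at e2
    show ((r (f m) : G))⁻¹ * (m : G) * p i j * (((r (f m) : G))⁻¹ * (m : G))⁻¹ = p i j
    rw [show ((r (f m) : G))⁻¹ * (m : G) * p i j * (((r (f m) : G))⁻¹ * (m : G))⁻¹ =
      ((r (f m) : G))⁻¹ * ((m : G) * p i j * (m : G)⁻¹) * (r (f m) : G) by group, ← e2]
    group
  let F : N → Set.range f × D.A := fun m => (⟨f m, m, rfl⟩, ⟨_, hA m⟩)
  have hFi : Function.Injective F := fun a b e => by
    obtain ⟨e1, e2⟩ := Prod.ext_iff.1 e
    have e1' : f a = f b := congrArg Subtype.val e1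
    have e2' : ((r (f a) : G))⁻¹ * (a : G) = ((r (f b) : G))⁻¹ * (b : G) := congrArg Subtype.val e2
    rw [e1'] at e2'
    exact Subtype.ext (mul_left_cancel e2')
  have hle := Nat.card_le_card_of_injective F hFi
  rw [hcard, Nat.card_prod, D.A_card, Nat.card_coe_set_eq] at hle
  have hall : Set.range f = Set.univ := by
    refine Set.eq_of_subset_of_ncard_le (Set.subset_univ _) ?_ (Set.toFinite _)
    rw [Set.ncard_univ, CfsgLib.Golay.natCard_M24]
    omega
  refine ⟨⟨p, hsym, hNc, hsurj, huniq, fun g hg => ?_⟩⟩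
  obtain ⟨m, hm⟩ := (Set.eq_univ_iff_forall.1 hall ⟨g, hg⟩)
  exact ⟨m, m.2, fun i j => by rw [hσ m, show σ m = g from congrArg Subtype.val hm]⟩

theorem exists_notMem (L : List Cfsg.GolayPt) (h : L.length ≤ 6) : ∃ g, g ∉ L := by
  classical
  by_contra hn
  simp only [not_exists, not_not] at hn
  have e : (Finset.univ : Finset Cfsg.GolayPt) ⊆ L.toFinset := fun x _ => List.mem_toFinset.2 (hn x)
  have := (Finset.card_le_card e).trans (List.toFinset_card_le L)
  rw [Finset.card_univ, show Fintype.card Cfsg.GolayPt = 24 by decide] at this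
  omega

namespace Labels

variable {D} (P : Labels D)

include P

/-- The product of the moved factors. -/
theorem pair_moved {a b c d e f : Cfsg.GolayPt} (hef : e ≠ f) (hprod : P.p a b * P.p c d = P.p e f)
    {g : Equiv.Perm Cfsg.GolayPt} (hg : g ∈ Cfsg.M24)
    (h1 : (g a = a ∧ g b = b) ∨ (g a = b ∧ g b = a)) (h2 : (g c = c ∧ g d = d) ∨ (g c = d ∧ g d = c)) :
    (g e = e ∧ g f = f) ∨ (g e = f ∧ g f = e) := by
  obtain ⟨m, -, hm⟩ := P.lift g hg
  have e1 : m * P.p a b * m⁻¹ = P.p a b := by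
    rw [hm]; rcases h1 with ⟨x, y⟩ | ⟨x, y⟩ <;> rw [x, y]
    exact P.sym _ _
  have e2 : m * P.p c d * m⁻¹ = P.p c d := by
    rw [hm]; rcases h2 with ⟨x, y⟩ | ⟨x, y⟩ <;> rw [x, y]
    exact P.sym _ _
  have e3 : m * P.p e f * m⁻¹ = P.p e f := by
    rw [← hprod, show m * (P.p a b * P.p c d) * m⁻¹ = m * P.p a b * m⁻¹ * (m * P.p c d * m⁻¹) by group, e1, e2]
  rw [hm] at e3
  rcases P.uniq _ _ _ _ (fun h => hef (g.injective h)) hef e3 with ⟨x, y⟩ | ⟨x, y⟩
  · exact Or.inl ⟨x.symm, y.symm⟩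
  · exact Or.inr ⟨y.symm, x.symm⟩

theorem mem_ne {i j : Cfsg.GolayPt} (h : i ≠ j) : P.p i j ≠ 1 := (P.mem i j h).2.1

/-- Disjoint pairs do not multiply to a pair. -/
theorem not_disjoint {a b c d e f : Cfsg.GolayPt} (hnd : [a, b, c, d].Nodup) (hef : e ≠ f)
    (hprod : P.p a b * P.p c d = P.p e f) : False := by
  have hout : ∀ {e f}, e ≠ f → P.p a b * P.p c d = P.p e f → e ∈ [a, b, c, d] := by
    intro e f hef hprod
    by_contra he
    obtain ⟨x, hx⟩ := exists_notMem [a, b, c, d, e, f] le_rfl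
    simp only [List.nodup_cons, List.mem_cons, List.not_mem_nil, or_false, not_or, List.nodup_nil, and_true,
      not_false_eq_true] at hnd he hx
    obtain ⟨g, hg, hgL⟩ := CfsgLib.Golay.exists_map_eq (L := [a, b, c, d, e]) (L' := [a, b, c, d, x])
      (by simp [hnd, Ne.symm he.1, Ne.symm he.2.1, Ne.symm he.2.2.1, Ne.symm he.2.2.2])
      (by simp [hnd, Ne.symm hx.1, Ne.symm hx.2.1, Ne.symm hx.2.2.1, Ne.symm hx.2.2.2.1]) rfl (by simp)
    simp only [List.map_cons, List.map_nil, List.cons.injEq, and_true] at hgL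
    obtain ⟨ga, gb, gc, gd, ge⟩ := hgL
    rcases P.pair_moved hef hprod hg (Or.inl ⟨ga, gb⟩) (Or.inl ⟨gc, gd⟩) with ⟨y, -⟩ | ⟨y, -⟩
    · exact hx.2.2.2.2.1 (ge.symm.trans y)
    · exact hx.2.2.2.2.2 (ge.symm.trans y)
  have he := hout hef hprod
  have hf := hout hef.symm (hprod.trans (P.sym e f))
  obtain ⟨g, hg, hgL⟩ := CfsgLib.Golay.exists_map_eq (L := [a, b, c, d]) (L' := [b, a, c, d]) hnd
    (by simp only [List.nodup_cons, List.mem_cons, List.not_mem_nil, or_false, not_or] at hnd ⊢; tauto) rfl (by simp)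
  obtain ⟨k, hk, hkL⟩ := CfsgLib.Golay.exists_map_eq (L := [a, b, c, d]) (L' := [a, b, d, c]) hnd
    (by simp only [List.nodup_cons, List.mem_cons, List.not_mem_nil, or_false, not_or] at hnd ⊢; tauto) rfl (by simp)
  simp only [List.map_cons, List.map_nil, List.cons.injEq, and_true] at hgL hkL
  obtain ⟨ga, gb, gc, gd⟩ := hgL
  obtain ⟨ka, kb, kc, kd⟩ := hkL
  simp only [List.nodup_cons, List.mem_cons, List.not_mem_nil, or_false, not_or, List.nodup_nil, and_true,
    not_false_eq_true] at hnd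
  have hab : P.p a b ≠ 1 := P.mem_ne hnd.1.1
  have hcd : P.p c d ≠ 1 := P.mem_ne hnd.2.2
  have n1 : ¬ (P.p e f = P.p a b) := fun h => hcd (mul_eq_left.1 (hprod.trans h))
  have n2 : ¬ (P.p e f = P.p c d) := fun h => hab (mul_eq_right.1 (hprod.trans h))
  have m1 := P.pair_moved hef hprod hg (Or.inr ⟨ga, gb⟩) (Or.inl ⟨gc, gd⟩)
  have m2 := P.pair_moved hef hprod hk (Or.inl ⟨ka, kb⟩) (Or.inr ⟨kc, kd⟩)
  have n1' : ¬ (P.p f e = P.p a b) := by rwa [P.sym]
  have n2' : ¬ (P.p f e = P.p c d) := by rwa [P.sym]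
  simp only [List.mem_cons, List.not_mem_nil, or_false] at he hf
  rcases he with rfl | rfl | rfl | rfl <;> rcases hf with rfl | rfl | rfl | rfl <;>
    first | exact hef rfl | exact n1 rfl | exact n2 rfl | exact n1' rfl | exact n2' rfl | simp_all

/-- Two pairs with a pair as product share a point. -/
theorem triangle {u v : G} (hu : u ∈ D.NcG) (hv : v ∈ D.NcG) (huv : u * v ∈ D.NcG) :
    ∃ a b c, a ≠ b ∧ a ≠ c ∧ b ≠ c ∧ P.p a b = u ∧ P.p a c = v ∧ P.p b c = u * v := by
  obtain ⟨a, b, hab, rfl⟩ := P.surj u hu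
  obtain ⟨c, d, hcd, rfl⟩ := P.surj v hv
  obtain ⟨e, f, hef, hprod⟩ := P.surj _ huv
  have shared : ∀ {a b c}, a ≠ b → a ≠ c → b ≠ c → P.p a b * P.p a c = P.p e f → P.p b c = P.p e f := by
    intro a b c hab hac hbc hprod
    have hout : ∀ {e f}, e ≠ f → P.p a b * P.p a c = P.p e f → e ∈ [a, b, c] := by
      intro e f hef hprod
      by_contra he
      obtain ⟨x, hx⟩ := exists_notMem [a, b, c, e, f] (by simp)
      simp only [List.mem_cons, List.not_mem_nil, or_false, not_or] at he hx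
      obtain ⟨g, hg, hgL⟩ := CfsgLib.Golay.exists_map_eq (L := [a, b, c, e]) (L' := [a, b, c, x])
        (by simp [hab, hac, hbc, Ne.symm he.1, Ne.symm he.2.1, Ne.symm he.2.2])
        (by simp [hab, hac, hbc, Ne.symm hx.1, Ne.symm hx.2.1, Ne.symm hx.2.2.1]) rfl (by simp)
      simp only [List.map_cons, List.map_nil, List.cons.injEq, and_true] at hgL
      obtain ⟨ga, gb, gc, ge⟩ := hgL
      rcases P.pair_moved hef hprod hg (Or.inl ⟨ga, gb⟩) (Or.inl ⟨ga, gc⟩) with ⟨y, -⟩ | ⟨y, -⟩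
      · exact hx.2.2.2.1 (ge.symm.trans y)
      · exact hx.2.2.2.2 (ge.symm.trans y)
    have he := hout hef hprod
    have hf := hout hef.symm (hprod.trans (P.sym e f))
    have n1 : ¬ (P.p e f = P.p a b) := fun h => P.mem_ne hac (mul_eq_left.1 (hprod.trans h))
    have n2 : ¬ (P.p e f = P.p a c) := fun h => P.mem_ne hab (mul_eq_right.1 (hprod.trans h))
    have n1' : ¬ (P.p f e = P.p a b) := by rwa [P.sym]
    have n2' : ¬ (P.p f e = P.p a c) := by rwa [P.sym]
    simp only [List.mem_cons, List.not_mem_nil, or_false] at he hf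
    rcases he with rfl | rfl | rfl <;> rcases hf with rfl | rfl | rfl <;>
      first | exact (hef rfl).elim | exact (n1 rfl).elim | exact (n2 rfl).elim | exact (n1' rfl).elim | exact (n2' rfl).elim | rfl | exact P.sym _ _
  have huv' : P.p a b ≠ P.p c d := fun h => huv.2.1 (by rw [h]; exact D.A_sq _ hv.1)
  by_cases h1 : a = c
  · subst h1
    have hbd : b ≠ d := fun h => huv' (by rw [h])
    exact ⟨a, b, d, hab, hcd, hbd, rfl, rfl, (shared hab hcd hbd hprod.symm).trans hprod⟩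
  by_cases h2 : a = d
  · subst h2
    have hbc : b ≠ c := fun h => huv' (by rw [h, P.sym])
    have e : P.p c a = P.p a c := P.sym _ _
    exact ⟨a, b, c, hab, h1, hbc, rfl, P.sym _ _,
      (shared hab h1 hbc (by rw [← e]; exact hprod.symm)).trans hprod⟩
  by_cases h3 : b = c
  · subst h3
    have e : P.p b a = P.p a b := P.sym _ _
    exact ⟨b, a, d, hab.symm, hcd, h2, P.sym _ _, rfl,
      (shared hab.symm hcd h2 (by rw [e]; exact hprod.symm)).trans hprod⟩
  by_cases h4 : b = d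
  · subst h4
    exact ⟨b, a, c, hab.symm, hcd.symm, h1, P.sym _ _, P.sym _ _,
      (shared hab.symm hcd.symm h1 (by rw [P.sym b a, P.sym b c]; exact hprod.symm)).trans hprod⟩
  exact (P.not_disjoint (by simp [hab, h1, h2, h3, h4, hcd]) hef hprod.symm).elim

/-- An element of the class all whose translates by a triangle leave the class. -/
theorem member_form {a b c : Cfsg.GolayPt} (hab : a ≠ b) (hac : a ≠ c) (hbc : b ≠ c)
    (h12 : P.p a b * P.p a c = P.p b c) {y : G} (hy : y ∈ D.A) (hc : IsConj z y)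
    (n1 : ¬ IsConj z (y * P.p a b)) (n2 : ¬ IsConj z (y * P.p a c)) (n3 : ¬ IsConj z (y * P.p b c)) :
    ∃ x, x ≠ a ∧ x ≠ b ∧ x ≠ c ∧ y = P.p a b * P.p x c := by
  have h13 : P.p a b * P.p b c = P.p a c := by
    rw [← h12, ← mul_assoc, D.A_sq _ (P.mem a b hab).1, one_mul]
  have nc : ∀ {i j}, i ≠ j → ¬ IsConj z (y * P.p i j) → y * P.p i j ∈ D.NcG := fun {i j} hij h =>
    ⟨mul_mem hy (P.mem i j hij).1, fun e => (P.mem i j hij).2.2 (by
      rw [← inv_eq_of_mul_eq_one_right e, D.A_inv hy]; exact hc), h⟩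
  have key : ∀ {i j k l : Cfsg.GolayPt}, i ≠ j → k ≠ l → P.p i j * P.p k l ∈ D.NcG →
      y * P.p i j * (y * P.p k l) = P.p i j * P.p k l := fun {i j k l} hij hkl _ => by
    rw [D.A_comm hy (P.mem i j hij).1, mul_assoc, ← mul_assoc y y, D.A_sq y hy, one_mul]
  have hy1 : y * P.p a b * (y * P.p a c) = P.p b c := (key hab hac (h12 ▸ P.mem b c hbc)).trans h12
  have hy2 : y * P.p a b * (y * P.p b c) = P.p a c := (key hab hbc (h13 ▸ P.mem a c hac)).trans h13
  obtain ⟨x, i, j, hxi, hxj, hij, e1, e2, e3⟩ := P.triangle (nc hab n1) (nc hac n2) (hy1 ▸ P.mem b c hbc)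
  obtain ⟨w, i', j', hwi, hwj, hij', f1, f2, f3⟩ := P.triangle (nc hab n1) (nc hbc n3) (hy2 ▸ P.mem a c hac)
  rw [hy1] at e3
  rw [hy2] at f3
  have hyv : ∀ {u}, u ∈ D.A → P.p x i = u → y = P.p a b * u := fun {u} _ e => by
    rw [← e, e1, D.A_comm hy (P.mem a b hab).1, ← mul_assoc, D.A_sq _ (P.mem a b hab).1, one_mul]
  have hyne : y ≠ 1 := fun e => Y.z1 (isConj_one_left.1 (e ▸ hc))
  have hne1 : P.p x i ≠ P.p a b := fun e =>
    hyne ((hyv (P.mem a b hab).1 e).trans (D.A_sq _ (P.mem a b hab).1))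
  have hne2 : P.p x i ≠ P.p a c := fun e => (P.mem b c hbc).2.2 (h12 ▸ hyv (P.mem a c hac).1 e ▸ hc)
  have hne3 : P.p x i ≠ P.p b c := fun e => (P.mem a c hac).2.2 (h13 ▸ hyv (P.mem b c hbc).1 e ▸ hc)
  have hi : i = b ∨ i = c := (P.uniq _ _ _ _ hbc hij e3.symm).elim (fun h => Or.inl h.1) fun h => Or.inr h.1
  have hi' : i' = a ∨ i' = c := (P.uniq _ _ _ _ hac hij' f3.symm).elim (fun h => Or.inl h.1) fun h => Or.inr h.1
  have hxw := P.uniq _ _ _ _ hxi hwi (e1.trans f1.symm)
  have hcase : i = c ∧ x ≠ a ∧ x ≠ b ∧ x ≠ c := by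
    rcases hi with rfl | rfl
    · exfalso
      rcases hxw with ⟨h, h'⟩ | ⟨h, h'⟩
      · rcases hi' with e | e <;> rw [e] at h'
        · exact hab h'
        · exact hbc h'.symm
      · rcases hi' with e | e <;> rw [e] at h'
        · exact hne1 (by rw [← h'])
        · exact hne3 (by rw [← h', P.sym])
    · exact ⟨rfl, fun e => hne2 (by rw [e]), fun e => hne3 (by rw [e]), hxi⟩
  obtain ⟨rfl, h1, h2, h3⟩ := hcase
  exact ⟨x, h1, h2, h3, hyv (P.mem x i hxi).1 rfl⟩

end Labels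

end CfsgLib.FischerTwoFour.FourCert
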